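import Groth.Agent.SiteMod.ExtP
import Groth.Agent.ModGroth.SiteStalk
import Groth.Agent.ModGroth.FlatSeq
import Groth.Agent.ModGroth.FreeOn
import Groth.Agent.EqFlat.Exact

/-!
# Extension by zero of sheaves of modules: projection formula, flatness, sections of internal homs
-/

universe u

open CategoryTheory Limits Opposite MonoidalCategory

namespace Groth.Agent.SiteMod

open Groth.Agent.ModGroth

variable {C : Type u} [SmallCategory C] {J : GrothendieckTopology C} (O : Sheaf J CommRingCat.{u})
  (U : C)

/-- `j_!` commutes with sheafification. -/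
noncomputable def extShIso : sh (O.over U) ⋙ ModSite.extZero O U ≅ extP O U ⋙ sh O :=
  (((adjn (O.over U)).comp (ModSite.extZeroAdj O U)).ofNatIsoRight (restrFgIso O U)).leftAdjointUniq
    ((extPAdj O U).comp (adjn O))

/-- `j_!` on sheaves is sheafified presheaf extension by zero. -/
noncomputable def extIso : ModSite.extZero O U ≅ fg (O.over U) ⋙ extP O U ⋙ sh O :=
  (Functor.leftUnitor _).symm ≪≫ Functor.isoWhiskerRight (shFgIso (O.over U)).symm _ ≪≫
    Functor.associator _ _ _ ≪≫ Functor.isoWhiskerLeft _ (extShIso O U)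

variable {O U} in
/-- The projection formula for presheaves, natural in the first variable. -/
noncomputable def projIso (N : PM O) :
    tensorRight ((rP O U).obj N) ⋙ extP O U ≅ extP O U ⋙ tensorRight N :=
  NatIso.ofComponents (fun P => asIso (projHom O U P N)) fun {P Q} a => by
    have h := projHom_natural O U a (𝟙 N)
    simp only [CategoryTheory.Functor.map_id, tensorHom_id] at h
    exact h

/-- The projection formula. -/
noncomputable def extZeroTensorIso (N : ModSite.Mod O) :
    tR ((ModSite.restr O U).obj N) ⋙ ModSite.extZero O U ≅ ModSite.extZero O U ⋙ tR N :=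
  Functor.isoWhiskerRight
      (Functor.isoWhiskerLeft (fg (O.over U)) (Functor.isoWhiskerRight
        ((MonoidalCategory.curriedTensor (PM (O.over U))).flip.mapIso ((restrFgIso O U).app N))
        (sh (O.over U)))) (ModSite.extZero O U) ≪≫
    Functor.isoWhiskerLeft (fg (O.over U) ⋙ tensorRight ((rP O U).obj ((fg O).obj N))) (extShIso O U) ≪≫
    Functor.isoWhiskerLeft (fg (O.over U))
      (Functor.isoWhiskerRight (projIso ((fg O).obj N)) (sh O)) ≪≫
    Functor.isoWhiskerLeft (fg (O.over U) ⋙ extP O U) (EqFlat.tensorShIso N) ≪≫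
    Functor.isoWhiskerRight (extIso O U).symm (tR N)

/-- Tensoring with the structure sheaf. -/
noncomputable def tLUnitIso : tL (ModSite.unit O) ≅ 𝟭 (ModSite.Mod O) :=
  NatIso.ofComponents
    (fun M => (sh O).mapIso (λ_ ((fg O).obj M)) ≪≫ (shFgIso O).app M) fun {M M'} g => by
      refine (Category.assoc _ _ _).symm.trans ?_
      refine Eq.trans ?_ ((congrArg ((sh O).map (λ_ ((fg O).obj M)).hom ≫ ·)
        ((shFgIso O).hom.naturality g)).trans (Category.assoc _ _ _).symm)
      refine Eq.trans ?_ (Category.assoc _ _ _)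
      refine congrArg (· ≫ (shFgIso O).hom.app M') ?_
      exact ((sh O).map_comp _ _).symm.trans ((congrArg (sh O).map
        (leftUnitor_naturality ((fg O).map g))).trans ((sh O).map_comp _ _))

lemma isFlat_unit : ModSite.IsFlat (ModSite.unit O) :=
  isFlat_of_iso ((shFgIso O).app (ModSite.unit O))
    (isFlat_sh ((fg O).obj (ModSite.unit O)) fun X =>
      inferInstanceAs (Module.Flat (O.obj.obj X) (O.obj.obj X)))

lemma mono_map_extP {P Q : PM (O.over U)} (a : P ⟶ Q) (h : ∀ W, Function.Injective (a.app W)) :
    Mono ((extP O U).map a) :=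
  PresheafOfModules.mono_of_injective fun V => by
    classical
    let f : ∀ φ : V.unop ⟶ U, Cp P φ →+ Cp Q φ := fun φ =>
      AddMonoidHom.mk' (fun x : Cp P φ => (a.app (op (Over.mk φ)) x : Cp Q φ))
        fun x y => map_add (a.app (op (Over.mk φ))).hom x y
    have e : ⇑(ConcreteCategory.hom (((extP O U).map a).app V)) = fun s => DirectSum.map f s := by
      have := sum_hom_ext P (a := (((extP O U).map a).app V).hom.toAddMonoidHom)
        (b := DirectSum.map f) fun φ x => ?_
      · funext s
        exact DFunLike.congr_fun this s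
      · exact (desc_mkE (a ≫ unitE Q) φ x).trans (DirectSum.map_of f φ x).symm
    intro x y hxy
    exact (DirectSum.map_injective f).2 (fun φ => h _)
      ((congrFun e x).symm.trans (hxy.trans (congrFun e y)))

/-- `j_!` preserves monomorphisms. -/
lemma mono_extZero_map {A B : ModSite.Mod (O.over U)} (g : A ⟶ B) [Mono g] :
    Mono ((ModSite.extZero O U).map g) := by
  have := SiteStalk.mono_forget g
  have := mono_map_extP O U ((fg (O.over U)).map g) fun W => PresheafOfModules.injective_of_mono _ W
  have : PreservesFiniteLimits (sh O) :=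
    inferInstanceAs (PreservesFiniteLimits
      (PresheafOfModules.sheafification.{u} (𝟙 (ModSite.ringSh O).obj)))
  have : Mono ((fg (O.over U) ⋙ extP O U ⋙ sh O).map g) :=
    inferInstanceAs (Mono ((sh O).map ((extP O U).map ((fg (O.over U)).map g))))
  exact mono_map_of_iso (extIso O U).symm g

/-- `j_!` of a flat module is flat. -/
theorem isFlat_extZero {M : ModSite.Mod (O.over U)} (hM : ModSite.IsFlat M) :
    ModSite.IsFlat ((ModSite.extZero O U).obj M) := by
  let P := (fg (O.over U)).obj M
  refine isFlat_of_iso ((extIso O U).app M).symm (isFlat_of_mono fun A B g _ => ?_)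
  suffices h : Mono ((fg O ⋙ tensorRight ((extP O U).obj P) ⋙ sh O).map g) from
    @mono_map_of_iso _ _ _ _ _ _ (tRsh ((extP O U).obj P)) _ _ g h
  let g' := (fg O).map g
  -- the mono `M ⊗ g|U` after `j_!`
  have : Mono ((ModSite.restr O U).map g) := by
    have : (ModSite.restr O U).PreservesMonomorphisms :=
      Functor.preservesMonomorphisms_of_adjunction (ModSite.extZeroAdj O U)
    infer_instance
  have h1 : Mono ((tL M).map ((ModSite.restr O U).map g)) := mono_tL_map hM _
  have h2 : Mono ((sh (O.over U)).map (P ◁ (rP O U).map g')) := by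
    have e : P ◁ (rP O U).map g' = (P ◁ (restrFgIso O U).inv.app A) ≫
        (P ◁ (fg (O.over U)).map ((ModSite.restr O U).map g)) ≫ (P ◁ (restrFgIso O U).hom.app B) := by
      rw [← MonoidalCategory.whiskerLeft_comp, ← MonoidalCategory.whiskerLeft_comp]
      refine congrArg (P ◁ ·) ?_
      exact (NatIso.naturality_1 (restrFgIso O U) g).symm
    have h1' : Mono ((sh (O.over U)).map (P ◁ (fg (O.over U)).map ((ModSite.restr O U).map g))) := h1
    rw [e, Functor.map_comp, Functor.map_comp]
    infer_instance
  have h3 : Mono ((ModSite.extZero O U).map ((sh (O.over U)).map (P ◁ (rP O U).map g'))) :=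
    mono_extZero_map O U _
  have h4 : Mono ((sh O).map ((extP O U).map (P ◁ (rP O U).map g'))) :=
    @mono_map_of_iso _ _ _ _ _ _ (extShIso O U) _ _ (P ◁ (rP O U).map g') h3
  have h5 : Mono ((sh O).map ((extP O U).obj P ◁ g')) := by
    have hn := projHom_natural O U (𝟙 P) g'
    simp only [id_tensorHom, CategoryTheory.Functor.map_id] at hn
    rw [show (extP O U).obj P ◁ g' = inv (projHom O U P ((fg O).obj A)) ≫
      (extP O U).map (P ◁ (rP O U).map g') ≫ projHom O U P ((fg O).obj B) from
      (IsIso.eq_inv_comp _).2 hn.symm, Functor.map_comp, Functor.map_comp]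
    infer_instance
  change Mono ((sh O).map (g' ▷ (extP O U).obj P))
  have e : g' ▷ (extP O U).obj P = (β_ _ _).hom ≫ (extP O U).obj P ◁ g' ≫ (β_ _ _).hom := by
    rw [BraidedCategory.braiding_naturality_right, ← Category.assoc, SymmetricCategory.symmetry,
      Category.id_comp]
  rw [e, Functor.map_comp, Functor.map_comp]
  infer_instance

/-- `A_X ⊗ M ≅ j_! (M|X)`. -/
noncomputable def freeOnTensorIso (M : ModSite.Mod O) :
    ((ModSite.tensorBi O).obj (ModSite.freeOn O U)).obj M ≅
      (ModSite.extZero O U).obj ((ModSite.restr O U).obj M) :=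
  ((extZeroTensorIso O U M).app (SheafOfModules.unit _)).symm ≪≫
    (ModSite.extZero O U).mapIso ((tLUnitIso (O.over U)).app ((ModSite.restr O U).obj M))

/-- Sections of the internal hom. -/
theorem nonempty_sheafHom_sections (M N : ModSite.Mod O) [ModSite.HasSheafHom M] :
    Nonempty (ModSite.sect ((ModSite.sheafHom M).obj N) U ≃+
      ((ModSite.restr O U).obj M ⟶ (ModSite.restr O U).obj N)) := by
  have : (tR M).Additive := tR_additive M
  have : (ModSite.restr O U).Additive := ⟨rfl⟩
  let e₁ : (ModSite.freeOn O U ⟶ (ModSite.sheafHom M).obj N) ≃+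
      ModSite.sect ((ModSite.sheafHom M).obj N) U :=
    { FreeOn.homEquiv O U _ with
      map_add' := fun a b => by
        change FreeOn.homEquiv O U _ (a + b) = FreeOn.homEquiv O U _ a + FreeOn.homEquiv O U _ b
        have h : a + b = biprod.lift a b ≫ biprod.desc (𝟙 _) (𝟙 _) := by
          rw [biprod.lift_desc, Category.comp_id, Category.comp_id]
        unfold FreeOn.homEquiv
        simp only [Equiv.trans_apply, Adjunction.homEquiv_unit, Functor.map_add, Preadditive.comp_add]
        rfl }
  let e₂ := ((ModSite.sheafHomAdj M).homAddEquiv (ModSite.freeOn O U) N).symm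
  let e₃ : ((tR M).obj (ModSite.freeOn O U) ⟶ N) ≃+
      ((ModSite.extZero O U).obj ((ModSite.restr O U).obj M) ⟶ N) :=
    { toFun := fun a => (freeOnTensorIso O U M).inv ≫ a
      invFun := fun a => (freeOnTensorIso O U M).hom ≫ a
      left_inv := fun a => (freeOnTensorIso O U M).hom_inv_id_assoc a
      right_inv := fun a => (freeOnTensorIso O U M).inv_hom_id_assoc a
      map_add' := fun a b => Preadditive.comp_add _ _ _ _ a b }
  have : (ModSite.extZero O U).Additive := (ModSite.extZeroAdj O U).left_adjoint_additive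
  let e₄ := (ModSite.extZeroAdj O U).homAddEquiv ((ModSite.restr O U).obj M) N
  exact ⟨(e₁.symm.trans e₂).trans (e₃.trans e₄)⟩

/-- Restriction commutes with internal homs. -/
noncomputable def restrSheafHomIso (M : ModSite.Mod O) [ModSite.HasSheafHom M]
    [ModSite.HasSheafHom ((ModSite.restr O U).obj M)] :
    ModSite.sheafHom M ⋙ ModSite.restr O U ≅
      ModSite.restr O U ⋙ ModSite.sheafHom ((ModSite.restr O U).obj M) :=
  conjugateIsoEquiv ((ModSite.extZeroAdj O U).comp (ModSite.sheafHomAdj M))
    ((ModSite.sheafHomAdj ((ModSite.restr O U).obj M)).comp (ModSite.extZeroAdj O U))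
    (extZeroTensorIso O U M)

end Groth.Agent.SiteMod
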