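import Groth.Agent.SiteMod.Restr
import Mathlib.LinearAlgebra.DirectSum.TensorProduct

/-!
# Extension by zero of presheaves of modules

For a presheaf of modules `P` on `C/U` the presheaf `V ↦ ⨁_{φ : V ⟶ U} P(φ)` is left adjoint to
restriction and satisfies the projection formula.
-/

universe u

open CategoryTheory Limits Opposite MonoidalCategory
open scoped TensorProduct DirectSum

namespace Groth.Agent.SiteMod

open Groth.Agent.ModGroth

variable {C : Type u} [SmallCategory C] {J : GrothendieckTopology C} {O : Sheaf J CommRingCat.{u}}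
  {U : C}

lemma tensor_addHom_ext {R M N G : Type*} [CommRing R] [AddCommGroup M] [AddCommGroup N] [Module R M]
    [Module R N] [AddCommMonoid G] {a b : M ⊗[R] N →+ G}
    (h : ∀ x y, a (x ⊗ₜ[R] y) = b (x ⊗ₜ[R] y)) : a = b := by
  refine AddMonoidHom.ext fun z => ?_
  induction z using TensorProduct.induction_on with
  | zero => rw [map_zero, map_zero]
  | tmul x y => exact h x y
  | add s t hs ht => rw [map_add, map_add, hs, ht]

/-- The sections over `φ : V ⟶ U`. -/
abbrev Cp (P : PM (O.over U)) {V : C} (φ : V ⟶ U) : Type u := P.obj (op (Over.mk φ))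

noncomputable instance cpModule (P : PM (O.over U)) {V : C} (φ : V ⟶ U) :
    Module (O.obj.obj (op V)) (Cp P φ) :=
  inferInstanceAs (Module ((O.over U).obj.obj (op (Over.mk φ))) (P.obj (op (Over.mk φ))))

/-- The inclusion of a component. -/
noncomputable def cof (P : PM (O.over U)) {V : C} (φ : V ⟶ U) :
    Cp P φ →+ ⨁ ψ : V ⟶ U, Cp P ψ :=
  letI := Classical.decEq (V ⟶ U)
  DirectSum.of (fun ψ => Cp P ψ) φ

lemma cof_res_congr (P : PM (O.over U)) {V W : C} {φ : V ⟶ U} {ψ ψ' : W ⟶ U}
    (a : Over.mk ψ ⟶ Over.mk φ) (a' : Over.mk ψ' ⟶ Over.mk φ) (h : a.left = a'.left) (x : Cp P φ) :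
    cof P ψ (res P a.op x) = cof P ψ' (res P a'.op x) := by
  have e : ψ = ψ' := (Over.w a).symm.trans ((congrArg (· ≫ φ) h).trans (Over.w a'))
  subst e
  obtain rfl : a = a' := Over.OverMorphism.ext h
  rfl

/-- The arrow `(g ≫ φ) ⟶ φ` of `C/U`. -/
abbrev lft {V W : C} (g : W ⟶ V) (φ : V ⟶ U) : Over.mk (g ≫ φ) ⟶ Over.mk φ := Over.homMk g

/-- Restriction of the direct sum. -/
noncomputable def extRes (P : PM (O.over U)) {V W : C} (g : W ⟶ V) :
    (⨁ φ : V ⟶ U, Cp P φ) →+ ⨁ ψ : W ⟶ U, Cp P ψ :=
  letI := Classical.decEq (V ⟶ U)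
  DirectSum.toAddMonoid fun φ => (cof P (g ≫ φ)).comp (res P (lft g φ).op)

lemma extRes_cof (P : PM (O.over U)) {V W : C} (g : W ⟶ V) (φ : V ⟶ U) (x : Cp P φ) :
    extRes P g (cof P φ x) = cof P (g ≫ φ) (res P (lft g φ).op x) := by
  classical
  exact DirectSum.toAddMonoid_of _ φ x

lemma sum_hom_ext (P : PM (O.over U)) {V : C} {G : Type*} [AddCommMonoid G]
    {a b : (⨁ φ : V ⟶ U, Cp P φ) →+ G} (h : ∀ φ x, a (cof P φ x) = b (cof P φ x)) : a = b := by
  classical
  exact DirectSum.addHom_ext h

/-- The underlying abelian presheaf. -/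
noncomputable def extAb (P : PM (O.over U)) : Cᵒᵖ ⥤ AddCommGrpCat.{u} where
  obj V := AddCommGrpCat.of (⨁ φ : V.unop ⟶ U, Cp P φ)
  map g := AddCommGrpCat.ofHom (extRes P g.unop)
  map_id V := by
    refine AddCommGrpCat.hom_ext (sum_hom_ext P fun φ x => ?_)
    refine (extRes_cof P _ φ x).trans ?_
    refine (cof_res_congr P (lft (𝟙 V : V ⟶ V).unop φ) (𝟙 (Over.mk φ)) rfl x).trans ?_
    exact congrArg (cof P φ) (res_id P x)
  map_comp {X Y Z} g h := by
    refine AddCommGrpCat.hom_ext (sum_hom_ext P fun φ x => ?_)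
    refine (extRes_cof P _ φ x).trans ?_
    refine Eq.trans ?_ ((congrArg (extRes P h.unop) (extRes_cof P g.unop φ x)).trans
      (extRes_cof P h.unop _ _)).symm
    rw [← res_comp, ← op_comp]
    exact cof_res_congr P (lft (g ≫ h).unop φ) (lft h.unop (g.unop ≫ φ) ≫ lft g.unop φ) rfl x

noncomputable instance (P : PM (O.over U)) (V : Cᵒᵖ) :
    Module ((O.obj ⋙ forget₂ CommRingCat.{u} RingCat.{u}).obj V) ((extAb P).obj V) :=
  inferInstanceAs (Module (O.obj.obj (op V.unop)) (⨁ φ : V.unop ⟶ U, Cp P φ))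

lemma cof_smul (P : PM (O.over U)) {V : C} (φ : V ⟶ U) (r : O.obj.obj (op V)) (x : Cp P φ) :
    cof P φ (r • x) = r • cof P φ x := by
  classical
  exact (DirectSum.lof (O.obj.obj (op V)) (V ⟶ U) (fun ψ => Cp P ψ) φ).map_smul r x

lemma extRes_smul (P : PM (O.over U)) {V W : C} (g : W ⟶ V) (r : O.obj.obj (op V))
    (s : ⨁ φ : V ⟶ U, Cp P φ) :
    extRes P g (r • s) = (O.obj.map g.op).hom r • extRes P g s := by
  classical
  induction s using DirectSum.induction_on with
  | zero => simp
  | of φ x =>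
    change extRes P g (r • cof P φ x) = (O.obj.map g.op).hom r • extRes P g (cof P φ x)
    rw [← cof_smul, extRes_cof, extRes_cof, ← cof_smul]
    exact congrArg (cof P _) (res_smul P (lft g φ).op r x)
  | add s t hs ht => rw [smul_add, map_add, map_add, smul_add, hs, ht]

/-- Extension by zero of a presheaf of modules. -/
noncomputable def extObj (P : PM (O.over U)) : PM O :=
  PresheafOfModules.ofPresheaf (extAb P) fun _ _ g r s => extRes_smul P g.unop r s

/-- The element `(φ, x)`. -/
noncomputable def mkE (P : PM (O.over U)) {V : C} (φ : V ⟶ U) :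
    Cp P φ →ₗ[O.obj.obj (op V)] (extObj P).obj (op V) where
  toFun x := cof P φ x
  map_add' x y := map_add (cof P φ) x y
  map_smul' r x := cof_smul P φ r x

lemma res_mkE (P : PM (O.over U)) {V W : C} (g : W ⟶ V) (φ : V ⟶ U) (x : Cp P φ) :
    res (extObj P) g.op (mkE P φ x) = mkE P (g ≫ φ) (res P (lft g φ).op x) :=
  extRes_cof P g φ x

lemma ext_hom_ext {P : PM (O.over U)} {G : PM O} {a b : extObj P ⟶ G}
    (h : ∀ {V : C} (φ : V ⟶ U) (x : Cp P φ), a.app (op V) (mkE P φ x) = b.app (op V) (mkE P φ x)) :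
    a = b :=
  PresheafOfModules.hom_ext fun _ => ModuleCat.hom_ext (LinearMap.toAddMonoidHom_injective
    (sum_hom_ext P fun φ x => h φ x))

/-- The component map of the transpose. -/
noncomputable def descApp {P : PM (O.over U)} {G : PM O} (θ : P ⟶ (rP O U).obj G) (V : C) :
    (⨁ φ : V ⟶ U, Cp P φ) →+ G.obj (op V) :=
  letI := Classical.decEq (V ⟶ U)
  DirectSum.toAddMonoid fun φ =>
    AddMonoidHom.mk' (fun x : Cp P φ => (θ.app (op (Over.mk φ)) x : G.obj (op V)))
      fun x y => map_add (θ.app (op (Over.mk φ))).hom x y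

lemma descApp_cof {P : PM (O.over U)} {G : PM O} (θ : P ⟶ (rP O U).obj G) {V : C} (φ : V ⟶ U)
    (x : Cp P φ) : descApp θ V (cof P φ x) = θ.app (op (Over.mk φ)) x := by
  classical
  exact DirectSum.toAddMonoid_of _ φ x

lemma descApp_smul {P : PM (O.over U)} {G : PM O} (θ : P ⟶ (rP O U).obj G) {V : C}
    (r : O.obj.obj (op V)) (s : ⨁ φ : V ⟶ U, Cp P φ) :
    descApp θ V (r • s) = r • descApp θ V s := by
  classical
  induction s using DirectSum.induction_on with
  | zero => simp
  | of φ x =>
    change descApp θ V (r • cof P φ x) = r • descApp θ V (cof P φ x)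
    rw [← cof_smul, descApp_cof, descApp_cof]
    exact map_smul (θ.app (op (Over.mk φ))).hom r x
  | add s t hs ht => rw [smul_add, map_add, map_add, smul_add, hs, ht]

/-- The transpose. -/
noncomputable def desc {P : PM (O.over U)} {G : PM O} (θ : P ⟶ (rP O U).obj G) : extObj P ⟶ G :=
  PresheafOfModules.homMk
    { app := fun V => AddCommGrpCat.ofHom (descApp θ V.unop)
      naturality := fun V W g => by
        refine AddCommGrpCat.hom_ext (sum_hom_ext P fun φ x => ?_)
        change descApp θ W.unop (extRes P g.unop (cof P φ x)) = res G g (descApp θ V.unop (cof P φ x))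
        rw [extRes_cof, descApp_cof, descApp_cof]
        exact res_app θ (lft g.unop φ).op x }
    fun _ r s => descApp_smul θ r s

lemma desc_mkE {P : PM (O.over U)} {G : PM O} (θ : P ⟶ (rP O U).obj G) {V : C} (φ : V ⟶ U)
    (x : Cp P φ) : (desc θ).app (op V) (mkE P φ x) = θ.app (op (Over.mk φ)) x :=
  descApp_cof θ φ x

/-- The unit. -/
noncomputable def unitE (P : PM (O.over U)) : P ⟶ (rP O U).obj (extObj P) where
  app W := ModuleCat.ofHom
    (Y := ((rP O U).obj (extObj P)).obj W)
    { toFun := fun x => mkE P W.unop.hom x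
      map_add' := map_add (mkE P W.unop.hom)
      map_smul' := map_smul (mkE P W.unop.hom) }
  naturality {W W'} a := by
    ext x
    refine Eq.symm ((res_mkE P a.unop.left W.unop.hom x).trans ?_)
    exact cof_res_congr P (lft a.unop.left W.unop.hom) (ψ' := W'.unop.hom) a.unop rfl x

variable (O U)

/-- Extension by zero, as a functor. -/
@[simps]
noncomputable def extP : PM (O.over U) ⥤ PM O where
  obj P := extObj P
  map {P Q} θ := desc (θ ≫ unitE Q)
  map_id P := ext_hom_ext fun φ x => desc_mkE _ φ x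
  map_comp {P Q R} a b := ext_hom_ext fun φ x => by
    refine (desc_mkE _ φ x).trans (Eq.symm ?_)
    refine (congrArg ((desc (b ≫ unitE R)).app (op _)) (desc_mkE (a ≫ unitE Q) φ x)).trans ?_
    exact desc_mkE _ φ _

/-- Extension by zero is left adjoint to restriction. -/
noncomputable def extPAdj : extP O U ⊣ rP O U :=
  Adjunction.mkOfHomEquiv
    { homEquiv := fun P G =>
        { toFun := fun ψ => unitE P ≫ (rP O U).map ψ
          invFun := desc
          left_inv := fun ψ => ext_hom_ext fun φ x => desc_mkE _ φ x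
          right_inv := fun θ => PresheafOfModules.hom_ext fun W => ModuleCat.hom_ext
            (LinearMap.ext fun x => desc_mkE θ W.unop.hom x) }
      homEquiv_naturality_left_symm := fun a g => ext_hom_ext fun φ x => by
        refine (desc_mkE _ φ x).trans (Eq.symm ?_)
        exact (congrArg ((desc g).app (op _)) (desc_mkE (a ≫ unitE _) φ x)).trans (desc_mkE g φ (PresheafOfModules.Hom.app a (op (Over.mk φ)) x))
      homEquiv_naturality_right := fun f g => rfl }

/-- The comparison map of the projection formula. -/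
noncomputable def projHom (P : PM (O.over U)) (N : PM O) :
    (extP O U).obj (P ⊗ (rP O U).obj N) ⟶ (extP O U).obj P ⊗ N :=
  desc (unitE P ▷ (rP O U).obj N ≫ (muI O U (extObj P) N).inv)

lemma projHom_mkE (P : PM (O.over U)) (N : PM O) {V : C} (φ : V ⟶ U) (x : Cp P φ)
    (n : N.obj (op V)) :
    (projHom O U P N).app (op V) (mkE (P ⊗ (rP O U).obj N) φ (x ⊗ₜ[O.obj.obj (op V)] n)) =
      mkE P φ x ⊗ₜ[O.obj.obj (op V)] n :=
  desc_mkE _ φ _

lemma bijective_projHom (P : PM (O.over U)) (N : PM O) (V : Cᵒᵖ) :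
    Function.Bijective ((projHom O U P N).app V) := by
  classical
  obtain ⟨V⟩ := V
  let e := TensorProduct.directSumLeft (O.obj.obj (op V)) (O.obj.obj (op V)) (fun φ : V ⟶ U => Cp P φ) (N.obj (op V))
  have key : (AddMonoidHom.mk' (fun s => (projHom O U P N).app (op V) s)
      (map_add ((projHom O U P N).app (op V)).hom) : _ →+ _) =
      e.symm.toLinearMap.toAddMonoidHom := by
    refine sum_hom_ext _ fun φ y => ?_
    let a₁ : Cp P φ ⊗[O.obj.obj (op V)] N.obj (op V) →+ _ :=
      (AddMonoidHom.mk' (fun s => (projHom O U P N).app (op V) s)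
        (map_add ((projHom O U P N).app (op V)).hom)).comp (cof (P ⊗ (rP O U).obj N) φ)
    let a₂ : Cp P φ ⊗[O.obj.obj (op V)] N.obj (op V) →+ _ :=
      e.symm.toLinearMap.toAddMonoidHom.comp (cof (P ⊗ (rP O U).obj N) φ)
    refine DFunLike.congr_fun (show a₁ = a₂ from tensor_addHom_ext fun x n => ?_) y
    refine (projHom_mkE O U P N φ x n).trans ?_
    exact (TensorProduct.directSumLeft_symm_lof_tmul (R := O.obj.obj (op V)) (S := O.obj.obj (op V)) (i := φ) x n).symm
  have hb : Function.Bijective e.symm.toLinearMap.toAddMonoidHom := e.symm.bijective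
  rw [← key] at hb
  exact hb

instance isIso_projHom (P : PM (O.over U)) (N : PM O) : IsIso (projHom O U P N) := by
  have : ∀ V, IsIso ((projHom O U P N).app V) := fun V =>
    (ConcreteCategory.isIso_iff_bijective _).2 (bijective_projHom O U P N V)
  exact ⟨(PresheafOfModules.isoMk (fun V => asIso ((projHom O U P N).app V))
    fun _ _ g => (projHom O U P N).naturality g).inv,
    Iso.hom_inv_id (PresheafOfModules.isoMk (fun V => asIso ((projHom O U P N).app V))
      fun _ _ g => (projHom O U P N).naturality g),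
    Iso.inv_hom_id (PresheafOfModules.isoMk (fun V => asIso ((projHom O U P N).app V))
      fun _ _ g => (projHom O U P N).naturality g)⟩

lemma projHom_natural {P P' : PM (O.over U)} {N N' : PM O} (a : P ⟶ P') (b : N ⟶ N') :
    (extP O U).map (tensorHom a ((rP O U).map b)) ≫ projHom O U P' N' =
      projHom O U P N ≫ tensorHom ((extP O U).map a) b := by
  refine ext_hom_ext fun {V} φ y => ?_
  let L := (extP O U).map (tensorHom a ((rP O U).map b)) ≫ projHom O U P' N'
  let R := projHom O U P N ≫ tensorHom ((extP O U).map a) b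
  let a₁ : Cp P φ ⊗[O.obj.obj (op V)] N.obj (op V) →+ _ :=
    (L.app (op V)).hom.toAddMonoidHom.comp (mkE (P ⊗ (rP O U).obj N) φ).toAddMonoidHom
  let a₂ : Cp P φ ⊗[O.obj.obj (op V)] N.obj (op V) →+ _ :=
    (R.app (op V)).hom.toAddMonoidHom.comp (mkE (P ⊗ (rP O U).obj N) φ).toAddMonoidHom
  refine DFunLike.congr_fun (show a₁ = a₂ from tensor_addHom_ext fun x n => ?_) y
  refine (congrArg ((projHom O U P' N').app (op V))
    (desc_mkE (tensorHom a ((rP O U).map b) ≫ unitE _) φ _)).trans ?_
  refine (projHom_mkE O U P' N' φ (a.app (op (Over.mk φ)) x) (b.app (op V) n)).trans (Eq.symm ?_)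
  refine (congrArg ((tensorHom ((extP O U).map a) b).app (op V)) (projHom_mkE O U P N φ x n)).trans ?_
  exact congrArg (· ⊗ₜ[O.obj.obj (op V)] _) (desc_mkE _ φ x)

end Groth.Agent.SiteMod
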