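import Groth.Agent.SiteMod.PullTensor
import Groth.Agent.SiteMod.ExtZero
import Mathlib.Algebra.Category.ModuleCat.Sheaf.PullbackFree

/-!
# The inverse image is monoidal and preserves free and invertible modules
-/

universe u

open CategoryTheory Limits Opposite MonoidalCategory
open scoped TensorProduct

namespace Groth.Agent.SiteMod

open Groth.Agent.ModGroth
open Groth.Agent.PullFlat (Loc Ms)

variable {C D : Type u} [SmallCategory C] [SmallCategory D] {J : GrothendieckTopology C}
  {K : GrothendieckTopology D} {O_C : Sheaf J CommRingCat.{u}} {O_D : Sheaf K CommRingCat.{u}}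
  (f : ModSite.RMor O_C O_D)

lemma pull_map_unitS {M M' : ModSite.Mod O_D} (φ : M ⟶ M') {d : D} (x : Ms M d) :
    (f.pull.map φ).val.app (op (f.fn.obj d)) (PullFlat.unitS f M x) =
      PullFlat.unitS f M' (φ.val.app (op d) x) :=
  ConcreteCategory.congr_hom (congrArg (fun θ => PresheafOfModules.Hom.app θ.val (op d))
    (f.adj.unit.naturality φ).symm) x

lemma mu_natural {M M' : ModSite.Mod O_D} (a : M ⟶ M') (N : ModSite.Mod O_D) :
    f.pull.map (((ModSite.tensorBi O_D).map a).app N) ≫ mu f M' N =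
      mu f M N ≫ ((ModSite.tensorBi O_C).map (f.pull.map a)).app (f.pull.obj N) := by
  apply (f.adj.homEquiv _ _).injective
  apply ((adjn O_D).homEquiv _ _).injective
  simp only [Adjunction.homEquiv_unit]
  refine PresheafOfModules.hom_ext fun U => ModuleCat.MonoidalCategory.tensor_ext (R := O_D.obj.obj U)
    fun m n => ?_
  obtain ⟨d⟩ := U
  change (mu f M' N).val.app (op (f.fn.obj d)) ((f.pull.map (((ModSite.tensorBi O_D).map a).app N)).val.app
      (op (f.fn.obj d)) (PullFlat.unitS f (MN M N) (tg M N m n))) =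
    (((ModSite.tensorBi O_C).map (f.pull.map a)).app (f.pull.obj N)).val.app (op (f.fn.obj d))
      ((mu f M N).val.app (op (f.fn.obj d)) (PullFlat.unitS f (MN M N) (tg M N m n)))
  rw [mu_unitS_tg]
  refine (congrArg ((mu f M' N).val.app (op (f.fn.obj d))) (pull_map_unitS f _ _)).trans ?_
  have e1 : (((ModSite.tensorBi O_D).map a).app N).val.app (op d) (tg M N m n) =
      tg M' N (a.val.app (op d) m) n :=
    (ConcreteCategory.congr_hom (congrArg (fun θ => PresheafOfModules.Hom.app θ (op d))
      (eta'_naturality ((fg O_D).map a ▷ (fg O_D).obj N))) (m ⊗ₜ[O_D.obj.obj (op d)] n)).symm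
  refine (congrArg (fun z => (mu f M' N).val.app (op (f.fn.obj d)) (PullFlat.unitS f (MN M' N) z)) e1).trans ?_
  rw [mu_unitS_tg]
  refine Eq.trans ?_ (ConcreteCategory.congr_hom (congrArg (fun θ => PresheafOfModules.Hom.app θ (op (f.fn.obj d)))
    (eta'_naturality ((fg O_C).map (f.pull.map a) ▷ (fg O_C).obj (f.pull.obj N))))
      (PullFlat.unitS f M m ⊗ₜ[O_C.obj.obj (op (f.fn.obj d))] PullFlat.unitS f N n))
  exact congrArg (fun z => (eta' ((fg O_C).obj (f.pull.obj M') ⊗ (fg O_C).obj (f.pull.obj N))).app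
    (op (f.fn.obj d)) (z ⊗ₜ[O_C.obj.obj (op (f.fn.obj d))] PullFlat.unitS f N n)) (pull_map_unitS f a m).symm

/-- The comparison is an isomorphism. -/
noncomputable def muIso (M N : ModSite.Mod O_D) :
    f.pull.obj (MN M N) ≅ PMN f M N where
  hom := mu f M N
  inv := nu f M N
  hom_inv_id := mu_nu f M N
  inv_hom_id := nu_mu f M N

/-- The inverse image commutes with tensoring. -/
noncomputable def pullTensorIso (N : ModSite.Mod O_D) :
    tR N ⋙ f.pull ≅ f.pull ⋙ tR (f.pull.obj N) :=
  NatIso.ofComponents (fun M => muIso f M N) fun a => mu_natural f a N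

/-- Internal hom and direct image. -/
noncomputable def pushSheafHomIso (N : ModSite.Mod O_D) [ModSite.HasSheafHom N]
    [ModSite.HasSheafHom (f.pull.obj N)] :
    ModSite.sheafHom (f.pull.obj N) ⋙ f.push ≅ f.push ⋙ ModSite.sheafHom N :=
  conjugateIsoEquiv (f.adj.comp (ModSite.sheafHomAdj (f.pull.obj N)))
    ((ModSite.sheafHomAdj N).comp f.adj) (pullTensorIso f N)

lemma bijective_pushforwardSections (N : ModSite.Mod O_C) :
    Function.Bijective (SheafOfModules.pushforwardSections f.sharpR (M := N)) := by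
  constructor
  · intro s t h
    refine PresheafOfModules.sections_ext _ _ fun V => ?_
    obtain ⟨V⟩ := V
    refine mod_eq_of_loc N (Loc.mono (PullFlat.exists_obj (J := J) K f.fn V) fun W k ⟨d, ⟨w⟩⟩ => ?_)
    have hd : s.val (op (f.fn.obj d)) = t.val (op (f.fn.obj d)) :=
      congrArg (fun u : ((SheafOfModules.pushforward f.sharpR).obj N).sections => u.val (op d)) h
    refine Eq.trans (b := res ((fg O_C).obj N) w.op (s.val (op (f.fn.obj d)))) ?_ ?_
    · exact (s.property k.op).trans (s.property w.op).symm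
    · rw [hd]
      exact (t.property w.op).trans (t.property k.op).symm
  · intro s
    let sv : ∀ d : D, ((fg O_C).obj N).obj (op (f.fn.obj d)) := fun d => s.val (op d)
    have hs : ∀ {d e : D} (a : e ⟶ d), res ((fg O_C).obj N) (f.fn.map a).op (sv d) = sv e :=
      fun a => s.property a.op
    let P : ∀ (V : C), ∀ ⦃W : C⦄, (W ⟶ V) → ((fg O_C).obj N).obj (op W) → Prop := fun V W _ t =>
      ∃ (d : D) (w : W ⟶ f.fn.obj d), t = res ((fg O_C).obj N) w.op (sv d)
    have uniq : ∀ {W : C} {d d' : D} (w : W ⟶ f.fn.obj d) (w' : W ⟶ f.fn.obj d'),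
        res ((fg O_C).obj N) w.op (sv d) = res ((fg O_C).obj N) w'.op (sv d') := by
      intro W d d' w w'
      refine mod_eq_of_loc N (Loc.mono (PullFlat.exists_cone (J := J) K f.fn w w')
        fun Z k ⟨e, z, p, q, hp, hq⟩ => ?_)
      beta_reduce
      rw [← res_comp, ← res_comp, ← op_comp, ← op_comp, ← hp, ← hq, op_comp, op_comp, res_comp,
        res_comp, hs, hs]
    have hex : ∀ V : C, ∃ x : ((fg O_C).obj N).obj (op V), ∀ ⦃W : C⦄ (k : W ⟶ V) t, P V k t →
        res ((fg O_C).obj N) k.op x = t := fun V =>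
      mod_exists_glue N (P := fun W k t => P V k t)
        (Loc.mono (PullFlat.exists_obj (J := J) K f.fn V) fun W k ⟨d, ⟨w⟩⟩ => ⟨_, d, w, rfl⟩)
        (fun W Z k l t t' ⟨d, w, h⟩ ⟨d', w', h'⟩ => by
          rw [h, h', ← res_comp, ← op_comp]; exact uniq _ _)
        (fun W Z k l t ⟨d, w, h⟩ => ⟨d, l ≫ w, by rw [h, ← res_comp, ← op_comp]⟩)
    choose x hx using hex
    refine ⟨PresheafOfModules.sectionsMk (fun V => x V.unop) fun V V' g => ?_,
      PresheafOfModules.sections_ext _ _ fun d => ?_⟩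
    · refine mod_eq_of_loc N (Loc.mono (PullFlat.exists_obj (J := J) K f.fn V'.unop)
        fun W k ⟨d, ⟨w⟩⟩ => ?_)
      beta_reduce
      refine Eq.trans ?_ (hx V'.unop k _ ⟨d, w, rfl⟩).symm
      refine (res_comp ((fg O_C).obj N) g k.op (x V.unop)).symm.trans ?_
      exact hx V.unop (k ≫ g.unop) _ ⟨d, w, rfl⟩
    · refine (res_id ((fg O_C).obj N) (x (f.fn.obj d.unop))).symm.trans ?_
      refine (hx (f.fn.obj d.unop) (𝟙 _) (sv d.unop) ⟨d.unop, 𝟙 _, ?_⟩)
      exact (res_id _ _).symm

lemma isIso_pullbackObjUnitToUnit : IsIso (SheafOfModules.pullbackObjUnitToUnit f.sharpR) := by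
  rw [isIso_iff_coyoneda_map_bijective]
  intro M
  rw [← ((SheafOfModules.pullbackPushforwardAdjunction.{u} f.sharpR).homEquiv _ _).bijective.of_comp_iff',
    ← (SheafOfModules.unitHomEquiv _).bijective.of_comp_iff']
  convert! (bijective_pushforwardSections f M).comp (SheafOfModules.unitHomEquiv _).bijective
  ext g : 1
  dsimp
  rw [SheafOfModules.pushforwardSections_unitHomEquiv, EmbeddingLike.apply_eq_iff_eq,
    Adjunction.homEquiv_naturality_right,
    SheafOfModules.pullbackPushforwardAdjunction_homEquiv_pullbackObjUnitToUnit]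

/-- `f^* O ≅ O`. -/
noncomputable def pullUnitIso : f.pull.obj (ModSite.unit O_D) ≅ ModSite.unit O_C :=
  @asIso _ _ _ _ (SheafOfModules.pullbackObjUnitToUnit f.sharpR) (isIso_pullbackObjUnitToUnit f)

/-- `f^*` of a free module is free. -/
noncomputable def pullFreeIso (I : Type u) :
    f.pull.obj (SheafOfModules.free (R := ModSite.ringSh O_D) I) ≅
      SheafOfModules.free (R := ModSite.ringSh O_C) I :=
  haveI : f.pull.IsLeftAdjoint := f.adj.isLeftAdjoint
  (SheafOfModules.mapFreeIso f.pull I (pullUnitIso f).symm).symm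

/-- A module with a tensor inverse gives an equivalence. -/
lemma isEquivalence_tL_of_inverse {A B : ModSite.Mod O_C}
    (e : ((ModSite.tensorBi O_C).obj A).obj B ≅ ModSite.unit O_C) :
    ((ModSite.tensorBi O_C).obj A).IsEquivalence := by
  have e' : ((ModSite.tensorBi O_C).obj B).obj A ≅ ModSite.unit O_C :=
    (tensorSymm A).symm.app B ≪≫ e
  have key : ∀ (G F : ModSite.Mod O_C), (((ModSite.tensorBi O_C).obj G).obj F ≅ ModSite.unit O_C) →
      (tR G ⋙ tR F ≅ 𝟭 (ModSite.Mod O_C)) := fun G F h =>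
    (tensorAssoc G F).symm ≪≫ (ModSite.tensorBi O_C).flip.mapIso h ≪≫
      (tensorSymm (ModSite.unit O_C)).symm ≪≫ tLUnitIso O_C
  have : (tR A).IsEquivalence :=
    (CategoryTheory.Equivalence.mk (tR A) (tR B) (key A B e).symm (key B A e')).isEquivalence_functor
  exact Functor.isEquivalence_of_iso (tensorSymm A).symm

/-- The inverse image of an invertible module is invertible. -/
theorem isEquivalence_pull {L : ModSite.Mod O_D} (hL : ((ModSite.tensorBi O_D).obj L).IsEquivalence) :
    ((ModSite.tensorBi O_C).obj (f.pull.obj L)).IsEquivalence :=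
  let e := ((ModSite.tensorBi O_D).obj L).asEquivalence
  isEquivalence_tL_of_inverse (B := f.pull.obj (e.inverse.obj (ModSite.unit O_D)))
    ((muIso f L _).symm ≪≫ f.pull.mapIso (e.counitIso.app (ModSite.unit O_D)) ≪≫ pullUnitIso f)

end Groth.Agent.SiteMod
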