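import Groth.Agent.PullFlat.Cone
import Groth.Agent.PullFlat.Pres
import Groth.Agent.PullFlat.Main

/-!
# The inverse image commutes with tensor products
-/

universe u

open CategoryTheory Limits Opposite MonoidalCategory
open scoped TensorProduct

namespace Groth.Agent.SiteMod

open Groth.Agent.ModGroth
open Groth.Agent.PullFlat (Loc Ms psi psi_comp psi_map cl dl)

section Sheaf

variable {C : Type u} [SmallCategory C] {J : GrothendieckTopology C} {O : Sheaf J CommRingCat.{u}}
  (T : ModSite.Mod O)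

lemma mod_isSheaf : Presieve.IsSheaf J (((fg O).obj T).presheaf ⋙ forget AddCommGrpCat.{u}) :=
  (isSheaf_iff_isSheaf_of_type _ _).1
    (Presheaf.isSheaf_comp_of_isSheaf J T.val.presheaf (forget AddCommGrpCat.{u}) T.isSheaf)

lemma mod_eq_of_loc {V : C} {x y : ((fg O).obj T).obj (op V)}
    (h : Loc J fun W (k : W ⟶ V) => res ((fg O).obj T) k.op x = res ((fg O).obj T) k.op y) :
    x = y :=
  let ⟨S, hS, hS'⟩ := h
  ((mod_isSheaf T).isSeparated S hS).ext fun _ g hg => hS' g hg

lemma mod_exists_glue {V : C} {P : ∀ ⦃W : C⦄, (W ⟶ V) → ((fg O).obj T).obj (op W) → Prop}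
    (h : Loc J fun W (k : W ⟶ V) => ∃ t, P k t)
    (hu : ∀ ⦃W Z : C⦄ (k : W ⟶ V) (l : Z ⟶ W) t t', P k t → P (l ≫ k) t' →
      res ((fg O).obj T) l.op t = t') (hr : ∀ ⦃W Z : C⦄ (k : W ⟶ V) (l : Z ⟶ W) t, P k t →
        P (l ≫ k) (res ((fg O).obj T) l.op t)) :
    ∃ x : ((fg O).obj T).obj (op V), ∀ ⦃W : C⦄ (k : W ⟶ V) t, P k t →
      res ((fg O).obj T) k.op x = t := by
  obtain ⟨S, hS, hS'⟩ := h
  choose t ht using hS'
  let y : Presieve.FamilyOfElements (((fg O).obj T).presheaf ⋙ forget AddCommGrpCat.{u}) S.arrows :=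
    fun W g hg => t g hg
  have hy : y.Compatible := by
    intro W₁ W₂ Z g₁ g₂ f₁ f₂ h₁ h₂ e
    change res ((fg O).obj T) g₁.op (t f₁ h₁) = res ((fg O).obj T) g₂.op (t f₂ h₂)
    have h' := hr f₂ g₂ _ (ht f₂ h₂)
    rw [← e] at h'
    exact hu f₁ g₁ _ _ (ht f₁ h₁) h'
  refine ⟨(mod_isSheaf T S hS).amalgamate y hy, fun W k t₀ h₀ => ?_⟩
  refine mod_eq_of_loc T ⟨_, J.pullback_stable k hS, fun Z l hl => ?_⟩
  beta_reduce
  rw [← res_comp, ← op_comp]
  refine ((mod_isSheaf T S hS).valid_glue hy (l ≫ k) hl).trans ?_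
  exact (hu k l _ _ h₀ (ht _ hl)).symm

end Sheaf

/-- Bilinear maps descend along surjections. -/
lemma exists_descend {R : Type*} [CommRing R] {A A' B B' T : Type*} [AddCommGroup A] [AddCommGroup A']
    [AddCommGroup B] [AddCommGroup B'] [AddCommGroup T] [Module R A] [Module R A'] [Module R B]
    [Module R B'] [Module R T] (p : A →ₗ[R] A') (q : B →ₗ[R] B') (hp : Function.Surjective p)
    (hq : Function.Surjective q) (Φ : A →ₗ[R] B →ₗ[R] T) (h₁ : ∀ a, p a = 0 → Φ a = 0)
    (h₂ : ∀ b, q b = 0 → ∀ a, Φ a b = 0) :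
    ∃ Ψ : A' ⊗[R] B' →ₗ[R] T, ∀ a b, Ψ (p a ⊗ₜ[R] q b) = Φ a b := by
  have wd : ∀ a a' b b', p a = p a' → q b = q b' → Φ a b = Φ a' b' := by
    intro a a' b b' ha hb
    have e1 := h₁ (a - a') (by rw [map_sub, ha, sub_self])
    rw [map_sub, sub_eq_zero] at e1
    have e2 := h₂ (b - b') (by rw [map_sub, hb, sub_self]) a'
    rw [map_sub, sub_eq_zero] at e2
    rw [e1, e2]
  let s := Function.surjInv hp
  let t := Function.surjInv hq
  have hs := Function.surjInv_eq hp
  have ht := Function.surjInv_eq hq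
  let β : A' →ₗ[R] B' →ₗ[R] T := LinearMap.mk₂ R (fun a b => Φ (s a) (t b))
    (fun a a' b => by
      rw [← LinearMap.add_apply, ← map_add]
      exact wd _ _ _ _ (by simp [s, hs]) rfl)
    (fun c a b => by
      rw [← LinearMap.smul_apply, ← map_smul]
      exact wd _ _ _ _ (by simp [s, hs]) rfl)
    (fun a b b' => by
      rw [← map_add]
      exact wd _ _ _ _ rfl (by simp [t, ht]))
    (fun c a b => by
      rw [← map_smul]
      exact wd _ _ _ _ rfl (by simp [t, ht]))
  exact ⟨TensorProduct.lift β, fun a b => wd _ _ _ _ (hs _) (ht _)⟩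

variable {C D : Type u} [SmallCategory C] [SmallCategory D] {J : GrothendieckTopology C}
  {K : GrothendieckTopology D} {O_C : Sheaf J CommRingCat.{u}} {O_D : Sheaf K CommRingCat.{u}}
  (f : ModSite.RMor O_C O_D)

/-- A section over `d`, pulled back along `v : V ⟶ fn d`. -/
noncomputable def pv {M : ModSite.Mod O_D} {V : C} {d : D} (v : V ⟶ f.fn.obj d) (m : Ms M d) :
    ((fg O_C).obj (f.pull.obj M)).obj (op V) :=
  res ((fg O_C).obj (f.pull.obj M)) v.op (PullFlat.unitS f M m)

lemma pv_comp {M : ModSite.Mod O_D} {V W : C} (g : W ⟶ V) {d : D} (v : V ⟶ f.fn.obj d) (m : Ms M d) :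
    res ((fg O_C).obj (f.pull.obj M)) g.op (pv f v m) = pv f (g ≫ v) m :=
  (res_comp ((fg O_C).obj (f.pull.obj M)) v.op g.op (PullFlat.unitS f M m)).symm

lemma pv_map {M : ModSite.Mod O_D} {V : C} {d d' : D} (v : V ⟶ f.fn.obj d) (a : d ⟶ d')
    (m : Ms M d') : pv f v (res ((fg O_D).obj M) a.op m) = pv f (v ≫ f.fn.map a) m := by
  rw [pv, PullFlat.unitS_res]
  exact pv_comp f v (f.fn.map a) m

lemma pv_add {M : ModSite.Mod O_D} {V : C} {d : D} (v : V ⟶ f.fn.obj d) (m m' : Ms M d) :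
    pv f v (m + m') = pv f v m + pv f v m' := by
  rw [pv, map_add, map_add]
  rfl

lemma pv_smul {M : ModSite.Mod O_D} {V : C} {d : D} (v : V ⟶ f.fn.obj d) (r : O_D.obj.obj (op d))
    (m : Ms M d) : pv f v (r • m) = psi f v r • pv f v m := by
  rw [pv, PullFlat.unitS_smul, res_smul, ← psi_comp, Category.comp_id]
  rfl

variable (M N : ModSite.Mod O_D)

/-- `M ⊗ N`. -/
noncomputable abbrev MN : ModSite.Mod O_D := ((ModSite.tensorBi O_D).obj M).obj N

/-- `f^*M ⊗ f^*N`. -/
noncomputable abbrev PMN : ModSite.Mod O_C :=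
  ((ModSite.tensorBi O_C).obj (f.pull.obj M)).obj (f.pull.obj N)

/-- The class of `m ⊗ n`. -/
noncomputable def tg {d : D} (m : Ms M d) (n : Ms N d) : Ms (MN M N) d :=
  (eta' ((fg O_D).obj M ⊗ (fg O_D).obj N)).app (op d) (m ⊗ₜ[O_D.obj.obj (op d)] n)

lemma tg_res {d e : D} (p : e ⟶ d) (m : Ms M d) (n : Ms N d) :
    res ((fg O_D).obj (MN M N)) p.op (tg M N m n) =
      tg M N (res ((fg O_D).obj M) p.op m) (res ((fg O_D).obj N) p.op n) :=
  (res_app (eta' ((fg O_D).obj M ⊗ (fg O_D).obj N)) p.op _).symm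

lemma tg_add_left {d : D} (m m' : Ms M d) (n : Ms N d) :
    tg M N (m + m') n = tg M N m n + tg M N m' n :=
  (congrArg _ (TensorProduct.add_tmul m m' n)).trans (map_add _ _ _)

lemma tg_add_right {d : D} (m : Ms M d) (n n' : Ms N d) :
    tg M N m (n + n') = tg M N m n + tg M N m n' :=
  (congrArg _ (TensorProduct.tmul_add m n n')).trans (map_add _ _ _)

lemma tg_smul_left {d : D} (r : O_D.obj.obj (op d)) (m : Ms M d) (n : Ms N d) :
    tg M N (r • m) n = r • tg M N m n :=
  map_smul ((eta' ((fg O_D).obj M ⊗ (fg O_D).obj N)).app (op d)).hom r (m ⊗ₜ[O_D.obj.obj (op d)] n)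

lemma tg_smul_right {d : D} (r : O_D.obj.obj (op d)) (m : Ms M d) (n : Ms N d) :
    tg M N m (r • n) = r • tg M N m n :=
  (congrArg _ (TensorProduct.tmul_smul r m n)).trans
    (map_smul ((eta' ((fg O_D).obj M ⊗ (fg O_D).obj N)).app (op d)).hom r (m ⊗ₜ[O_D.obj.obj (op d)] n))

/-- `t` is the product of two pulled back sections computed on a cone. -/
def IsProd {V : C} (x : (PullFlat.gen f M).obj (op V)) (y : (PullFlat.gen f N).obj (op V)) {W : C}
    (k : W ⟶ V) (t : ((fg O_C).obj (f.pull.obj (MN M N))).obj (op W)) : Prop :=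
  ∃ (e : D) (w : W ⟶ f.fn.obj e) (p : e ⟶ x.1) (q : e ⟶ y.1),
    w ≫ f.fn.map p = k ≫ x.2.1 ∧ w ≫ f.fn.map q = k ≫ y.2.1 ∧
      t = pv f w (tg M N (res ((fg O_D).obj M) p.op x.2.2) (res ((fg O_D).obj N) q.op y.2.2))

lemma IsProd.intro {V : C} {d d' : D} {v : V ⟶ f.fn.obj d} {m : Ms M d} {v' : V ⟶ f.fn.obj d'}
    {n : Ms N d'} {W : C} {k : W ⟶ V} {e : D} (w : W ⟶ f.fn.obj e) (p : e ⟶ d) (q : e ⟶ d')
    (hp : w ≫ f.fn.map p = k ≫ v) (hq : w ≫ f.fn.map q = k ≫ v') :
    IsProd f M N (⟨d, v, m⟩ : (PullFlat.gen f M).obj (op V)) (⟨d', v', n⟩ : (PullFlat.gen f N).obj (op V))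
      k (pv f w (tg M N (res ((fg O_D).obj M) p.op m) (res ((fg O_D).obj N) q.op n))) :=
  ⟨e, w, p, q, hp, hq, rfl⟩

lemma isProd_res {V : C} {x : (PullFlat.gen f M).obj (op V)} {y : (PullFlat.gen f N).obj (op V)}
    {W Z : C} (k : W ⟶ V) (l : Z ⟶ W) {t} (h : IsProd f M N x y k t) :
    IsProd f M N x y (l ≫ k) (res ((fg O_C).obj (f.pull.obj (MN M N))) l.op t) := by
  obtain ⟨e, w, p, q, hp, hq, rfl⟩ := h
  exact ⟨e, l ≫ w, p, q, by rw [Category.assoc, hp, Category.assoc],
    by rw [Category.assoc, hq, Category.assoc], pv_comp f l w _⟩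

lemma isProd_unique {V : C} {x : (PullFlat.gen f M).obj (op V)} {y : (PullFlat.gen f N).obj (op V)}
    {W : C} {k : W ⟶ V} {t t'} (h : IsProd f M N x y k t) (h' : IsProd f M N x y k t') : t = t' := by
  obtain ⟨e, w, p, q, hp, hq, rfl⟩ := h
  obtain ⟨e', w', p', q', hp', hq', rfl⟩ := h'
  refine mod_eq_of_loc _ ?_
  refine Loc.bind (PullFlat.exists_cone (J := J) K f.fn w w') fun Z l ⟨e₁, w₁, r, r', hr, hr'⟩ => ?_
  have ha : w₁ ≫ f.fn.map (r ≫ p) = w₁ ≫ f.fn.map (r' ≫ p') := by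
    rw [f.fn.map_comp, f.fn.map_comp, reassoc_of% hr, reassoc_of% hr', hp, hp']
  refine Loc.bind (PullFlat.exists_equalize (J := J) K f.fn w₁ _ _ ha) fun Z₂ l₂ ⟨e₂, w₂, c, hc, hc'⟩ => ?_
  have hb : w₂ ≫ f.fn.map (c ≫ r ≫ q) = w₂ ≫ f.fn.map (c ≫ r' ≫ q') := by
    simp only [f.fn.map_comp, reassoc_of% hc, reassoc_of% hr, reassoc_of% hr', hq, hq']
  refine Loc.mono (PullFlat.exists_equalize (J := J) K f.fn w₂ _ _ hb) fun Z₃ l₃ ⟨e₃, w₃, c', hd, hd'⟩ => ?_
  have hw : ((l₃ ≫ l₂) ≫ l) ≫ w = w₃ ≫ f.fn.map (c' ≫ c ≫ r) := by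
    simp only [f.fn.map_comp, reassoc_of% hd, reassoc_of% hc, hr, Category.assoc]
  have hw' : ((l₃ ≫ l₂) ≫ l) ≫ w' = w₃ ≫ f.fn.map (c' ≫ c ≫ r') := by
    simp only [f.fn.map_comp, reassoc_of% hd, reassoc_of% hc, hr', Category.assoc]
  rw [pv_comp, pv_comp, hw, hw', ← pv_map, ← pv_map, tg_res, tg_res]
  simp only [← res_comp, ← op_comp, Category.assoc] at hc' hd' ⊢
  rw [hc', hd']

lemma exists_val {V : C} (x : (PullFlat.gen f M).obj (op V)) (y : (PullFlat.gen f N).obj (op V)) :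
    ∃ t : ((fg O_C).obj (f.pull.obj (MN M N))).obj (op V), ∀ ⦃W : C⦄ (k : W ⟶ V) s,
      IsProd f M N x y k s → res ((fg O_C).obj (f.pull.obj (MN M N))) k.op t = s :=
  mod_exists_glue _ (P := fun W k t => IsProd f M N x y k t)
    (Loc.mono (PullFlat.exists_cone (J := J) K f.fn x.2.1 y.2.1) fun W k ⟨e, w, p, q, hp, hq⟩ =>
      ⟨_, e, w, p, q, hp, hq, rfl⟩)
    (fun _ _ k l _ _ h h' => isProd_unique f M N (isProd_res f M N k l h) h')
    (fun _ _ k l _ h => isProd_res f M N k l h)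

/-- The product of two generators. -/
noncomputable def val {V : C} (x : (PullFlat.gen f M).obj (op V)) (y : (PullFlat.gen f N).obj (op V)) :
    ((fg O_C).obj (f.pull.obj (MN M N))).obj (op V) :=
  (exists_val f M N x y).choose

lemma val_spec {V : C} {x : (PullFlat.gen f M).obj (op V)} {y : (PullFlat.gen f N).obj (op V)}
    {W : C} {k : W ⟶ V} {s} (h : IsProd f M N x y k s) :
    res ((fg O_C).obj (f.pull.obj (MN M N))) k.op (val f M N x y) = s :=
  (exists_val f M N x y).choose_spec k s h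

lemma val_res {V W : C} (g : W ⟶ V) {d d' : D} (v : V ⟶ f.fn.obj d) (m : Ms M d)
    (v' : V ⟶ f.fn.obj d') (n : Ms N d') :
    res ((fg O_C).obj (f.pull.obj (MN M N))) g.op (val f M N ⟨d, v, m⟩ ⟨d', v', n⟩) =
      val f M N ⟨d, g ≫ v, m⟩ ⟨d', g ≫ v', n⟩ := by
  refine mod_eq_of_loc _ (Loc.mono (PullFlat.exists_cone (J := J) K f.fn (g ≫ v) (g ≫ v'))
    fun Z k ⟨e, w, p, q, hp, hq⟩ => ?_)
  beta_reduce
  have h1 := val_spec f M N (IsProd.intro f M N (m := m) (n := n) (k := k ≫ g) w p q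
    (hp.trans (Category.assoc _ _ _).symm) (hq.trans (Category.assoc _ _ _).symm))
  have h2 := val_spec f M N (IsProd.intro f M N (m := m) (n := n) (k := k) w p q hp hq)
  rw [← res_comp, ← op_comp]
  exact h1.trans h2.symm

/-- The pairing of free modules. -/
noncomputable def pairing (V : C) :
    (PullFlat.FG f M).obj (op V) →ₗ[O_C.obj.obj (op V)]
      (PullFlat.FG f N).obj (op V) →ₗ[O_C.obj.obj (op V)]
        ((fg O_C).obj (f.pull.obj (MN M N))).obj (op V) :=
  Finsupp.linearCombination (O_C.obj.obj (op V)) fun x =>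
    Finsupp.linearCombination (O_C.obj.obj (op V)) fun y => val f M N x y

lemma pairing_dl {V : C} {d d' : D} (v : V ⟶ f.fn.obj d) (m : Ms M d) (v' : V ⟶ f.fn.obj d')
    (n : Ms N d') : pairing f M N V (dl f M v m) (dl f N v' n) = val f M N ⟨d, v, m⟩ ⟨d', v', n⟩ := by
  refine (LinearMap.congr_fun ((Finsupp.linearCombination_single _ _ _).trans (one_smul _ _)) _).trans ?_
  exact (Finsupp.linearCombination_single _ _ _).trans (one_smul _ _)

lemma pairing_left_rel {V : C} (r : PullFlat.Rel f M V) {d' : D} (v' : V ⟶ f.fn.obj d') (n : Ms N d') :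
    pairing f M N V (PullFlat.relVal f M r) (dl f N v' n) = 0 := by
  have red : ∀ a b, a = b → a - b = (0 : ((fg O_C).obj (f.pull.obj (MN M N))).obj (op V)) :=
    fun a b h => sub_eq_zero.2 h
  cases r with
  | add d v m m' =>
    simp only [PullFlat.relVal, map_sub, LinearMap.sub_apply, pairing_dl]
    rw [sub_sub]
    refine red _ _ (mod_eq_of_loc _ (Loc.mono (PullFlat.exists_cone (J := J) K f.fn v v')
      fun W k ⟨e, w, p, q, hp, hq⟩ => ?_))
    beta_reduce
    rw [map_add, val_spec f M N ⟨e, w, p, q, hp, hq, rfl⟩, val_spec f M N ⟨e, w, p, q, hp, hq, rfl⟩,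
      val_spec f M N ⟨e, w, p, q, hp, hq, rfl⟩]
    simp only [map_add, tg_add_left, pv_add]
  | smul d v r m =>
    simp only [PullFlat.relVal, map_sub, map_smul, LinearMap.sub_apply, LinearMap.smul_apply, pairing_dl]
    refine red _ _ (mod_eq_of_loc _ (Loc.mono (PullFlat.exists_cone (J := J) K f.fn v v')
      fun W k ⟨e, w, p, q, hp, hq⟩ => ?_))
    beta_reduce
    rw [res_smul, val_spec f M N ⟨e, w, p, q, hp, hq, rfl⟩, val_spec f M N ⟨e, w, p, q, hp, hq, rfl⟩]
    simp only [res_smul, tg_smul_left, pv_smul]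
    rw [← psi_map, hp, psi_comp]
  | nat d d₁ a v m =>
    simp only [PullFlat.relVal, map_sub, LinearMap.sub_apply, pairing_dl]
    refine red _ _ (mod_eq_of_loc _ (Loc.mono (PullFlat.exists_cone (J := J) K f.fn v v')
      fun W k ⟨e, w, p, q, hp, hq⟩ => ?_))
    beta_reduce
    rw [val_spec f M N ⟨e, w, p ≫ a, q, by rw [f.fn.map_comp, reassoc_of% hp], hq, rfl⟩,
      val_spec f M N ⟨e, w, p, q, hp, hq, rfl⟩, op_comp, res_comp]

lemma pairing_right_rel {V : C} (r : PullFlat.Rel f N V) {d : D} (v : V ⟶ f.fn.obj d) (m : Ms M d) :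
    pairing f M N V (dl f M v m) (PullFlat.relVal f N r) = 0 := by
  have red : ∀ a b, a = b → a - b = (0 : ((fg O_C).obj (f.pull.obj (MN M N))).obj (op V)) :=
    fun a b h => sub_eq_zero.2 h
  cases r with
  | add d' v' n n' =>
    simp only [PullFlat.relVal, map_sub, pairing_dl]
    rw [sub_sub]
    refine red _ _ (mod_eq_of_loc _ (Loc.mono (PullFlat.exists_cone (J := J) K f.fn v v')
      fun W k ⟨e, w, p, q, hp, hq⟩ => ?_))
    beta_reduce
    rw [map_add, val_spec f M N ⟨e, w, p, q, hp, hq, rfl⟩, val_spec f M N ⟨e, w, p, q, hp, hq, rfl⟩,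
      val_spec f M N ⟨e, w, p, q, hp, hq, rfl⟩]
    simp only [map_add, tg_add_right, pv_add]
  | smul d' v' r n =>
    simp only [PullFlat.relVal, map_sub, map_smul, pairing_dl]
    refine red _ _ (mod_eq_of_loc _ (Loc.mono (PullFlat.exists_cone (J := J) K f.fn v v')
      fun W k ⟨e, w, p, q, hp, hq⟩ => ?_))
    beta_reduce
    rw [res_smul, val_spec f M N ⟨e, w, p, q, hp, hq, rfl⟩, val_spec f M N ⟨e, w, p, q, hp, hq, rfl⟩]
    simp only [res_smul, tg_smul_right, pv_smul]
    rw [← psi_map, hq, psi_comp]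
  | nat d' d₁ a v' n =>
    simp only [PullFlat.relVal, map_sub, pairing_dl]
    refine red _ _ (mod_eq_of_loc _ (Loc.mono (PullFlat.exists_cone (J := J) K f.fn v v')
      fun W k ⟨e, w, p, q, hp, hq⟩ => ?_))
    beta_reduce
    rw [val_spec f M N ⟨e, w, p, q ≫ a, hp, by rw [f.fn.map_comp, reassoc_of% hq], rfl⟩,
      val_spec f M N ⟨e, w, p, q, hp, hq, rfl⟩, op_comp, res_comp]

lemma pairing_left_zero {V : C} (a : (PullFlat.FG f M).obj (op V))
    (ha : (PullFlat.proj f M).app (op V) a = 0) : pairing f M N V a = 0 := by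
  obtain ⟨u, rfl⟩ := (PullFlat.exact_app f M (op V) a).1 ha
  clear ha
  refine LinearMap.ext fun b => ?_
  have e : ∀ o, pairing f M N V ((PullFlat.relMap f M).app (op V) u) (Finsupp.single o (1 : O_C.obj.obj (op V)) : (PullFlat.FG f N).obj (op V)) = 0 := by
    intro o
    induction u using Finsupp.induction_linear with
    | zero =>
      refine (congrArg (fun z => pairing f M N V z (Finsupp.single o (1 : O_C.obj.obj (op V)) : (PullFlat.FG f N).obj (op V))) (map_zero ((PullFlat.relMap f M).app (op V)).hom)).trans ?_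
      simp
    | add s t hs ht =>
      refine (congrArg (fun z => pairing f M N V z (Finsupp.single o (1 : O_C.obj.obj (op V)) : (PullFlat.FG f N).obj (op V))) (map_add ((PullFlat.relMap f M).app (op V)).hom s t)).trans ?_
      simp only [map_add, LinearMap.add_apply]
      exact (congrArg₂ (· + ·) hs ht).trans (add_zero 0)
    | single r c' =>
      have : (PullFlat.relMap f M).app (op V) (Finsupp.single r c') = c' • PullFlat.relVal f M r := by
        rw [← PullFlat.relMap_single]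
        refine Eq.trans (congrArg _ ?_) (map_smul ((PullFlat.relMap f M).app (op V)).hom c' _)
        exact (Finsupp.smul_single_one (R := O_C.obj.obj (op V)) r c').symm
      refine (congrArg (fun z => pairing f M N V z (Finsupp.single o (1 : O_C.obj.obj (op V)) : (PullFlat.FG f N).obj (op V))) this).trans ?_
      simp only [map_smul, LinearMap.smul_apply]
      exact (congrArg (c' • ·) (pairing_left_rel f M N r o.2.1 o.2.2)).trans (smul_zero c')
  induction b using Finsupp.induction_linear with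
  | zero => exact map_zero _
  | add s t hs ht =>
    refine (map_add _ s t).trans ?_
    exact (congrArg₂ (· + ·) hs ht).trans (add_zero 0)
  | single x c =>
    have hx : (Finsupp.single x c : (PullFlat.FG f N).obj (op V)) =
        c • (Finsupp.single x (1 : O_C.obj.obj (op V)) : (PullFlat.FG f N).obj (op V)) :=
      (Finsupp.smul_single_one (R := O_C.obj.obj (op V)) x c).symm
    refine (congrArg (pairing f M N V _) hx).trans ((map_smul _ c _).trans ?_)
    exact (congrArg (c • ·) (e x)).trans (smul_zero c)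

lemma pairing_right_zero {V : C} (b : (PullFlat.FG f N).obj (op V))
    (hb : (PullFlat.proj f N).app (op V) b = 0) (a : (PullFlat.FG f M).obj (op V)) :
    pairing f M N V a b = 0 := by
  obtain ⟨u, rfl⟩ := (PullFlat.exact_app f N (op V) b).1 hb
  clear hb
  have e : ∀ o, pairing f M N V (Finsupp.single o (1 : O_C.obj.obj (op V)) : (PullFlat.FG f M).obj (op V)) ((PullFlat.relMap f N).app (op V) u) = 0 := by
    intro o
    induction u using Finsupp.induction_linear with
    | zero =>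
      refine (congrArg (fun z => pairing f M N V (Finsupp.single o (1 : O_C.obj.obj (op V)) : (PullFlat.FG f M).obj (op V)) z) (map_zero ((PullFlat.relMap f N).app (op V)).hom)).trans ?_
      simp
    | add s t hs ht =>
      refine (congrArg (fun z => pairing f M N V (Finsupp.single o (1 : O_C.obj.obj (op V)) : (PullFlat.FG f M).obj (op V)) z) (map_add ((PullFlat.relMap f N).app (op V)).hom s t)).trans ?_
      simp only [map_add, LinearMap.add_apply]
      exact (congrArg₂ (· + ·) hs ht).trans (add_zero 0)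
    | single r c' =>
      have : (PullFlat.relMap f N).app (op V) (Finsupp.single r c') = c' • PullFlat.relVal f N r := by
        rw [← PullFlat.relMap_single]
        refine Eq.trans (congrArg _ ?_) (map_smul ((PullFlat.relMap f N).app (op V)).hom c' _)
        exact (Finsupp.smul_single_one (R := O_C.obj.obj (op V)) r c').symm
      refine (congrArg (fun z => pairing f M N V (Finsupp.single o (1 : O_C.obj.obj (op V)) : (PullFlat.FG f M).obj (op V)) z) this).trans ?_
      simp only [map_smul, LinearMap.smul_apply]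
      exact (congrArg (c' • ·) (pairing_right_rel f M N r o.2.1 o.2.2)).trans (smul_zero c')
  induction a using Finsupp.induction_linear with
  | zero => exact LinearMap.congr_fun (map_zero (pairing f M N V)) _
  | add s t hs ht =>
    refine (LinearMap.congr_fun (map_add (pairing f M N V) s t) _).trans ?_
    exact (congrArg₂ (· + ·) hs ht).trans (add_zero 0)
  | single x c =>
    have hx : (Finsupp.single x c : (PullFlat.FG f M).obj (op V)) =
        c • (Finsupp.single x (1 : O_C.obj.obj (op V)) : (PullFlat.FG f M).obj (op V)) :=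
      (Finsupp.smul_single_one (R := O_C.obj.obj (op V)) x c).symm
    let c₀ : O_C.obj.obj (op V) := c
    refine (congrArg (fun z => pairing f M N V z _) hx).trans
      ((LinearMap.congr_fun (map_smul (pairing f M N V) c₀ _) _).trans ?_)
    exact (congrArg (c₀ • ·) (e x)).trans (smul_zero c₀)

lemma exists_pairingQ (V : C) :
    ∃ Ψ : (PullFlat.pre f M).obj (op V) ⊗[O_C.obj.obj (op V)] (PullFlat.pre f N).obj (op V)
        →ₗ[O_C.obj.obj (op V)] ((fg O_C).obj (f.pull.obj (MN M N))).obj (op V),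
      ∀ a b, Ψ ((PullFlat.proj f M).app (op V) a ⊗ₜ[O_C.obj.obj (op V)]
        (PullFlat.proj f N).app (op V) b) = pairing f M N V a b :=
  exists_descend ((PullFlat.proj f M).app (op V)).hom ((PullFlat.proj f N).app (op V)).hom
    (PresheafOfModules.surjective_of_epi _ _) (PresheafOfModules.surjective_of_epi _ _)
    (pairing f M N V) (pairing_left_zero f M N) (pairing_right_zero f M N)

/-- The pairing of presheaf inverse images. -/
noncomputable def pairingQ (V : C) :
    (PullFlat.pre f M).obj (op V) ⊗[O_C.obj.obj (op V)] (PullFlat.pre f N).obj (op V)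
      →ₗ[O_C.obj.obj (op V)] ((fg O_C).obj (f.pull.obj (MN M N))).obj (op V) :=
  (exists_pairingQ f M N V).choose

lemma pairingQ_cl {V : C} {d d' : D} (v : V ⟶ f.fn.obj d) (m : Ms M d) (v' : V ⟶ f.fn.obj d')
    (n : Ms N d') :
    pairingQ f M N V (cl f M v m ⊗ₜ[O_C.obj.obj (op V)] cl f N v' n) =
      val f M N ⟨d, v, m⟩ ⟨d', v', n⟩ :=
  ((exists_pairingQ f M N V).choose_spec _ _).trans (pairing_dl f M N v m v' n)

lemma span_cl {L : ModSite.Mod O_D} (V : C) :
    Submodule.span (O_C.obj.obj (op V))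
      (Set.range fun x : (PullFlat.gen f L).obj (op V) => cl f L x.2.1 x.2.2) = ⊤ := by
  refine Submodule.eq_top_iff'.2 fun z => ?_
  obtain ⟨z, rfl⟩ := PresheafOfModules.surjective_of_epi (PullFlat.proj f L) (op V) z
  induction z using Finsupp.induction_linear with
  | zero =>
    have := map_zero ((PullFlat.proj f L).app (op V)).hom
    exact (congrArg (· ∈ _) this).mpr (zero_mem _)
  | add s t hs ht =>
    have := map_add ((PullFlat.proj f L).app (op V)).hom s t
    exact (congrArg (· ∈ _) this).mpr (add_mem hs ht)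
  | single x c =>
    let c₀ : O_C.obj.obj (op V) := c
    have : (PullFlat.proj f L).app (op V) (Finsupp.single x c) = c₀ • cl f L x.2.1 x.2.2 :=
      (congrArg _ (Finsupp.smul_single_one (R := O_C.obj.obj (op V)) x c₀).symm).trans
        (map_smul ((PullFlat.proj f L).app (op V)).hom c₀ _)
    exact (congrArg (· ∈ _) this).mpr (Submodule.smul_mem _ _ (Submodule.subset_span ⟨x, rfl⟩))

lemma hom_ext_cl {V : C} {T : ModuleCat.{u} (O_C.obj.obj (op V))}
    {φ φ' : (PullFlat.pre f M ⊗ PullFlat.pre f N : PM O_C).obj (op V) ⟶ T}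
    (h : ∀ (x : (PullFlat.gen f M).obj (op V)) (y : (PullFlat.gen f N).obj (op V)),
      φ (cl f M x.2.1 x.2.2 ⊗ₜ[O_C.obj.obj (op V)] cl f N y.2.1 y.2.2) =
        φ' (cl f M x.2.1 x.2.2 ⊗ₜ[O_C.obj.obj (op V)] cl f N y.2.1 y.2.2)) : φ = φ' :=
  ModuleCat.hom_ext <| TensorProduct.ext <| LinearMap.ext_on_range (span_cl f V) fun x =>
    LinearMap.ext_on_range (span_cl f V) fun y => h x y

/-- The presheaf map of the inverse comparison. -/
noncomputable def pairingHom :
    (PullFlat.pre f M ⊗ PullFlat.pre f N : PM O_C) ⟶ (fg O_C).obj (f.pull.obj (MN M N)) where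
  app V := ModuleCat.ofHom
    (X := ((PullFlat.pre f M ⊗ PullFlat.pre f N : PM O_C).obj V))
    (pairingQ f M N V.unop)
  naturality {V W} g := by
    obtain ⟨g, rfl⟩ : ∃ h : W.unop ⟶ V.unop, g = h.op := ⟨g.unop, rfl⟩
    refine hom_ext_cl f M N (V := V.unop) fun x y => ?_
    obtain ⟨d, v, m⟩ := x
    obtain ⟨d', v', n⟩ := y
    change pairingQ f M N W.unop (res (PullFlat.pre f M) g.op (cl f M v m) ⊗ₜ
        res (PullFlat.pre f N) g.op (cl f N v' n)) =
      res ((fg O_C).obj (f.pull.obj (MN M N))) g.op (pairingQ f M N V.unop (cl f M v m ⊗ₜ cl f N v' n))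
    rw [PullFlat.res_cl, PullFlat.res_cl, pairingQ_cl, pairingQ_cl, val_res]

lemma pairingHom_cl {V : C} {d d' : D} (v : V ⟶ f.fn.obj d) (m : Ms M d) (v' : V ⟶ f.fn.obj d')
    (n : Ms N d') :
    (pairingHom f M N).app (op V) (cl f M v m ⊗ₜ[O_C.obj.obj (op V)] cl f N v' n) =
      val f M N ⟨d, v, m⟩ ⟨d', v', n⟩ :=
  pairingQ_cl f M N v m v' n

/-- The forward comparison on sections. -/
noncomputable def muSec {d : D} (m : Ms M d) (n : Ms N d) :
    ((fg O_C).obj (PMN f M N)).obj (op (f.fn.obj d)) :=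
  (eta' ((fg O_C).obj (f.pull.obj M) ⊗ (fg O_C).obj (f.pull.obj N))).app (op (f.fn.obj d))
    (PullFlat.unitS f M m ⊗ₜ[O_C.obj.obj (op (f.fn.obj d))] PullFlat.unitS f N n)

/-- The forward comparison, before sheafifying. -/
noncomputable def muPre :
    ((fg O_D).obj M ⊗ (fg O_D).obj N : PM O_D) ⟶ (fg O_D).obj (f.push.obj (PMN f M N)) where
  app U := ModuleCat.MonoidalCategory.tensorLift (R := O_D.obj.obj U)
    (M₃ := ((fg O_D).obj (f.push.obj (PMN f M N))).obj U)
    (fun m n => muSec f M N (d := U.unop) m n)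
    (fun m m' n => (congrArg _ ((congrArg (· ⊗ₜ[O_C.obj.obj (op (f.fn.obj U.unop))] _)
      (map_add (PullFlat.unitS f M (d := U.unop)) m m')).trans (TensorProduct.add_tmul _ _ _))).trans
      (map_add _ _ _))
    (fun r m n => by
      refine (congrArg _ ((congrArg (· ⊗ₜ[O_C.obj.obj (op (f.fn.obj U.unop))] _)
        (PullFlat.unitS_smul f M (d := U.unop) r m)).trans (TensorProduct.smul_tmul' _ _ _).symm)).trans ?_
      refine (map_smul ((eta' ((fg O_C).obj (f.pull.obj M) ⊗ (fg O_C).obj (f.pull.obj N))).app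
        (op (f.fn.obj U.unop))).hom _ _).trans ?_
      exact congrArg (fun c : O_C.obj.obj (op (f.fn.obj U.unop)) => c • muSec f M N (d := U.unop) m n)
        (PullFlat.psi_id f (d := U.unop) r))
    (fun m n n' => (congrArg _ ((congrArg (_ ⊗ₜ[O_C.obj.obj (op (f.fn.obj U.unop))] ·)
      (map_add (PullFlat.unitS f N (d := U.unop)) n n')).trans (TensorProduct.tmul_add _ _ _))).trans
      (map_add _ _ _))
    (fun r m n => by
      refine (congrArg _ ((congrArg (_ ⊗ₜ[O_C.obj.obj (op (f.fn.obj U.unop))] ·)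
        (PullFlat.unitS_smul f N (d := U.unop) r n)).trans (TensorProduct.tmul_smul _ _ _))).trans ?_
      refine (map_smul ((eta' ((fg O_C).obj (f.pull.obj M) ⊗ (fg O_C).obj (f.pull.obj N))).app
        (op (f.fn.obj U.unop))).hom _ _).trans ?_
      exact congrArg (fun c : O_C.obj.obj (op (f.fn.obj U.unop)) => c • muSec f M N (d := U.unop) m n)
        (PullFlat.psi_id f (d := U.unop) r))
  naturality {U V} g := by
    refine ModuleCat.MonoidalCategory.tensor_ext (R := O_D.obj.obj U) fun m n => ?_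
    obtain ⟨g, rfl⟩ : ∃ h : V.unop ⟶ U.unop, g = h.op := ⟨g.unop, rfl⟩
    change muSec f M N (res ((fg O_D).obj M) g.op m) (res ((fg O_D).obj N) g.op n) =
      res ((fg O_C).obj (PMN f M N)) (f.fn.map g).op (muSec f M N m n)
    rw [muSec, muSec, PullFlat.unitS_res, PullFlat.unitS_res]
    exact res_app (eta' ((fg O_C).obj (f.pull.obj M) ⊗ (fg O_C).obj (f.pull.obj N))) (f.fn.map g).op
      (PullFlat.unitS f M m ⊗ₜ[O_C.obj.obj (op (f.fn.obj U.unop))] PullFlat.unitS f N n)

/-- `f^*(M ⊗ N) ⟶ f^*M ⊗ f^*N`. -/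
noncomputable def mu : f.pull.obj (MN M N) ⟶ PMN f M N :=
  (f.adj.homEquiv _ _).symm (((adjn O_D).homEquiv _ _).symm (muPre f M N))

lemma mu_unitS_tg {d : D} (m : Ms M d) (n : Ms N d) :
    (mu f M N).val.app (op (f.fn.obj d)) (PullFlat.unitS f (MN M N) (tg M N m n)) =
      muSec f M N m n := by
  have h1 : f.adj.unit.app _ ≫ f.push.map (mu f M N) =
      ((adjn O_D).homEquiv _ _).symm (muPre f M N) :=
    (f.adj.homEquiv_unit _ _ _).symm.trans (Equiv.apply_symm_apply _ _)
  have h2 : eta' ((fg O_D).obj M ⊗ (fg O_D).obj N) ≫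
      (fg O_D).map (((adjn O_D).homEquiv _ _).symm (muPre f M N)) = muPre f M N :=
    ((adjn O_D).homEquiv_unit _ _ _).symm.trans (Equiv.apply_symm_apply _ _)
  refine (ConcreteCategory.congr_hom (congrArg (fun φ => PresheafOfModules.Hom.app φ.val (op d)) h1)
    (tg M N m n)).trans ?_
  exact ConcreteCategory.congr_hom (congrArg (fun φ => PresheafOfModules.Hom.app φ (op d)) h2)
    (m ⊗ₜ[O_D.obj.obj (op d)] n)

/-- The classes mapped to sections of the inverse image. -/
noncomputable def iota : PullFlat.pre f M ⟶ (fg O_C).obj (f.pull.obj M) :=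
  eta' (PullFlat.pre f M) ≫ (fg O_C).map (PullFlat.pullIso f M).hom

lemma iota_cl {V : C} {d : D} (v : V ⟶ f.fn.obj d) (m : Ms M d) :
    (iota f M).app (op V) (cl f M v m) = pv f v m :=
  PullFlat.toPull_eta f M v m

lemma isIso_sh_iota : IsIso ((sh O_C).map (iota f M)) := by
  have : IsIso ((sh O_C).map (eta' (PullFlat.pre f M))) := isIso_sheafify_eta _
  rw [iota, Functor.map_comp]
  infer_instance

lemma isIso_sh_iota_tensor : IsIso ((sh O_C).map (tensorHom (iota f M) (iota f N))) := by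
  have := isIso_sh_iota f M
  have := isIso_sh_iota f N
  have := isIso_sheafify_whiskerRight (iota f M) (PullFlat.pre f N)
  have := fun P : PM O_C => isIso_sheafify_whiskerLeft (iota f N) P
  rw [tensorHom_def, Functor.map_comp]
  infer_instance

/-- `f^*M ⊗ f^*N ⟶ f^*(M ⊗ N)`. -/
noncomputable def nu : PMN f M N ⟶ f.pull.obj (MN M N) :=
  @inv _ _ _ _ ((sh O_C).map (tensorHom (iota f M) (iota f N))) (isIso_sh_iota_tensor f M N) ≫
    ((adjn O_C).homEquiv _ _).symm (pairingHom f M N)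

lemma nu_cl {V : C} {d d' : D} (v : V ⟶ f.fn.obj d) (m : Ms M d) (v' : V ⟶ f.fn.obj d')
    (n : Ms N d') :
    (nu f M N).val.app (op V) ((eta' ((fg O_C).obj (f.pull.obj M) ⊗ (fg O_C).obj (f.pull.obj N))).app
      (op V) (pv f v m ⊗ₜ[O_C.obj.obj (op V)] pv f v' n)) = val f M N ⟨d, v, m⟩ ⟨d', v', n⟩ := by
  have := isIso_sh_iota_tensor f M N
  have h : (sh O_C).map (tensorHom (iota f M) (iota f N)) ≫ nu f M N =
      ((adjn O_C).homEquiv _ _).symm (pairingHom f M N) := IsIso.hom_inv_id_assoc _ _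
  have h2 : eta' (PullFlat.pre f M ⊗ PullFlat.pre f N) ≫ (fg O_C).map
      (((adjn O_C).homEquiv _ _).symm (pairingHom f M N)) = pairingHom f M N :=
    ((adjn O_C).homEquiv_unit _ _ _).symm.trans (Equiv.apply_symm_apply _ _)
  rw [← h, Functor.map_comp, ← Category.assoc, ← eta'_naturality] at h2
  refine Eq.trans ?_ ((ConcreteCategory.congr_hom
    (congrArg (fun φ => PresheafOfModules.Hom.app φ (op V)) h2) _).trans (pairingHom_cl f M N v m v' n))
  refine congrArg ((nu f M N).val.app (op V)) (congrArg _ ?_)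
  exact congrArg₂ (· ⊗ₜ[O_C.obj.obj (op V)] ·) (iota_cl f M v m).symm (iota_cl f N v' n).symm

lemma mu_nu : mu f M N ≫ nu f M N = 𝟙 _ := by
  apply (f.adj.homEquiv _ _).injective
  apply ((adjn O_D).homEquiv _ _).injective
  simp only [Adjunction.homEquiv_unit]
  refine PresheafOfModules.hom_ext fun U => ModuleCat.MonoidalCategory.tensor_ext (R := O_D.obj.obj U)
    fun m n => ?_
  obtain ⟨d⟩ := U
  change (nu f M N).val.app (op (f.fn.obj d)) ((mu f M N).val.app (op (f.fn.obj d))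
    (PullFlat.unitS f (MN M N) (tg M N m n))) = PullFlat.unitS f (MN M N) (tg M N m n)
  rw [mu_unitS_tg]
  have e : ∀ {M : ModSite.Mod O_D} (m : Ms M d), pv f (𝟙 (f.fn.obj d)) m = PullFlat.unitS f M m :=
    fun m => by rw [pv, op_id]; exact res_id _ _
  have h := nu_cl f M N (𝟙 _) m (𝟙 _) n
  rw [e, e] at h
  refine h.trans ?_
  have hs := val_spec f M N (IsProd.intro f M N (m := m) (n := n) (v := 𝟙 (f.fn.obj d)) (v' := 𝟙 (f.fn.obj d))
    (k := 𝟙 (f.fn.obj d)) (𝟙 (f.fn.obj d)) (𝟙 d) (𝟙 d) (by simp) (by simp))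
  simp only [op_id] at hs
  erw [res_id, res_id, res_id] at hs
  exact hs.trans (e _)

lemma mu_val {V : C} {d d' : D} (v : V ⟶ f.fn.obj d) (m : Ms M d) (v' : V ⟶ f.fn.obj d')
    (n : Ms N d') :
    (mu f M N).val.app (op V) (val f M N ⟨d, v, m⟩ ⟨d', v', n⟩) =
      (eta' ((fg O_C).obj (f.pull.obj M) ⊗ (fg O_C).obj (f.pull.obj N))).app
        (op V) (pv f v m ⊗ₜ[O_C.obj.obj (op V)] pv f v' n) := by
  refine mod_eq_of_loc (PMN f M N) (Loc.mono (PullFlat.exists_cone (J := J) K f.fn v v')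
    fun W k ⟨e, w, p, q, hp, hq⟩ => ?_)
  beta_reduce
  refine (res_app ((fg O_C).map (mu f M N)) k.op _).symm.trans ?_
  refine (congrArg ((mu f M N).val.app (op W))
    (val_spec f M N (IsProd.intro f M N (m := m) (n := n) w p q hp hq))).trans ?_
  refine (res_app ((fg O_C).map (mu f M N)) w.op _).trans ?_
  refine (congrArg (res ((fg O_C).obj (PMN f M N)) w.op) (mu_unitS_tg f M N _ _)).trans ?_
  refine (res_app (eta' ((fg O_C).obj (f.pull.obj M) ⊗ (fg O_C).obj (f.pull.obj N))) w.op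
    (PullFlat.unitS f M (res ((fg O_D).obj M) p.op m) ⊗ₜ[O_C.obj.obj (op (f.fn.obj e))]
      PullFlat.unitS f N (res ((fg O_D).obj N) q.op n))).symm.trans ?_
  refine Eq.trans ?_ (res_app (eta' ((fg O_C).obj (f.pull.obj M) ⊗ (fg O_C).obj (f.pull.obj N))) k.op
    (pv f v m ⊗ₜ[O_C.obj.obj (op V)] pv f v' n))
  refine congrArg _ ?_
  change pv f w (res ((fg O_D).obj M) p.op m) ⊗ₜ[O_C.obj.obj (op W)] pv f w (res ((fg O_D).obj N) q.op n) =
    res ((fg O_C).obj (f.pull.obj M)) k.op (pv f v m) ⊗ₜ[O_C.obj.obj (op W)]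
      res ((fg O_C).obj (f.pull.obj N)) k.op (pv f v' n)
  rw [pv_map, pv_map, pv_comp, pv_comp, hp, hq]

lemma nu_mu : nu f M N ≫ mu f M N = 𝟙 _ := by
  have := isIso_sh_iota_tensor f M N
  refine (cancel_epi ((sh O_C).map (tensorHom (iota f M) (iota f N)))).1 ?_
  refine Eq.trans ?_ (Category.comp_id _).symm
  apply ((adjn O_C).homEquiv _ _).injective
  simp only [Adjunction.homEquiv_unit]
  refine PresheafOfModules.hom_ext fun V => ?_
  obtain ⟨V⟩ := V
  refine hom_ext_cl f M N fun x y => ?_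
  obtain ⟨d, v, m⟩ := x
  obtain ⟨d', v', n⟩ := y
  have hι : ((eta' ((fg O_C).obj (f.pull.obj M) ⊗ (fg O_C).obj (f.pull.obj N))).app (op V))
      ((tensorHom (iota f M) (iota f N)).app (op V) (cl f M v m ⊗ₜ[O_C.obj.obj (op V)] cl f N v' n)) =
      ((eta' ((fg O_C).obj (f.pull.obj M) ⊗ (fg O_C).obj (f.pull.obj N))).app (op V))
        (pv f v m ⊗ₜ[O_C.obj.obj (op V)] pv f v' n) :=
    congrArg _ (congrArg₂ (· ⊗ₜ[O_C.obj.obj (op V)] ·) (iota_cl f M v m) (iota_cl f N v' n))
  have hnat : eta' (PullFlat.pre f M ⊗ PullFlat.pre f N) ≫ (fg O_C).map ((sh O_C).map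
      (tensorHom (iota f M) (iota f N))) = tensorHom (iota f M) (iota f N) ≫ eta' _ :=
    (eta'_naturality _).symm
  have hn := (ConcreteCategory.congr_hom (congrArg (fun φ => PresheafOfModules.Hom.app φ (op V)) hnat)
    (cl f M v m ⊗ₜ[O_C.obj.obj (op V)] cl f N v' n)).trans hι
  refine Eq.trans ?_ hn.symm
  refine (congrArg ((mu f M N).val.app (op V))
    ((congrArg ((nu f M N).val.app (op V)) hn).trans (nu_cl f M N v m v' n))).trans ?_
  exact mu_val f M N v m v' n

end Groth.Agent.SiteMod
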