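import Groth.Agent.SiteMod.FlatCrit
import Groth.Agent.EqFlat.Over
import Groth.Prelude.Def_AlgSpPerf

/-!
# Maps out of summands of finite free modules lift locally
-/

universe u

open CategoryTheory Limits Opposite

namespace Groth.Agent.SiteMod

open Groth.Agent.ModGroth

variable {C : Type u} [SmallCategory C] {J : GrothendieckTopology C} (O : Sheaf J CommRingCat.{u})

theorem exists_local_lift (E F G : ModSite.Mod O)
    (hE : DCoh.IsFinFreeSummandMod (ModSite.ringSh O) E) (p : G ⟶ F) [Epi p] (φ : E ⟶ F) (V : C) :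
    ∃ R ∈ J V, ∀ ⦃W : C⦄ (g : W ⟶ V), R g →
      ∃ l : (ModSite.restr O W).obj E ⟶ (ModSite.restr O W).obj G,
        l ≫ (ModSite.restr O W).map p = (ModSite.restr O W).map φ := by
  classical
  obtain ⟨n, i, q, hiq⟩ := hE
  have hp : Epi ((SheafOfModules.toSheaf.{u} (ModSite.ringSh O)).map p) := by
    have := toSheaf_preservesColimits (R := ModSite.ringSh O)
    infer_instance
  rw [← Sheaf.isLocallySurjective_iff_epi'] at hp
  let ι (j : ULift.{u} (Fin n)) : ModSite.unit O ⟶ F :=
    SheafOfModules.ιFree (R := ModSite.ringSh O) j ≫ q ≫ φ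
  let s (j : ULift.{u} (Fin n)) : F.val.obj (op V) := (ι j).val.app (op V) (1 : O.obj.obj (op V))
  let R : Sieve V := Finset.univ.inf fun j : ULift.{u} (Fin n) =>
    Presheaf.imageSieve (U := V) ((SheafOfModules.toSheaf.{u} (ModSite.ringSh O)).map p).hom (s j)
  have hR : R ∈ J V := Finset.inf_induction (J.top_mem V) (fun a ha b hb => J.intersection_covering ha hb)
    fun j _ => Presheaf.imageSieve_mem J ((SheafOfModules.toSheaf.{u} (ModSite.ringSh O)).map p).hom
      (U := op V) (s j)
  refine ⟨R, hR, fun W g hg => ?_⟩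
  have hj : ∀ j, ∃ y : G.val.obj (op W), p.val.app (op W) y =
      res ((fg O).obj F) g.op (s j) := fun j =>
    (Finset.inf_le (f := fun j : ULift.{u} (Fin n) => Presheaf.imageSieve (U := V)
      ((SheafOfModules.toSheaf.{u} (ModSite.ringSh O)).map p).hom (s j)) (Finset.mem_univ j)) _ hg
  choose y hy using hj
  have : (ModSite.restr O W).IsLeftAdjoint :=
    have : PreservesColimitsOfSize.{u, u} (ModSite.restr O W) :=
      pushforward_preservesColimits_of_isCocontinuous _
    sheaf_isLeftAdjoint (ModSite.ringSh O) _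
  let e : SheafOfModules.free (ULift.{u} (Fin n)) ≅
      (ModSite.restr O W).obj (SheafOfModules.free (ULift.{u} (Fin n))) :=
    SheafOfModules.mapFreeIso (ModSite.restr O W) _ (Iso.refl _)
  let l₀ : SheafOfModules.free (R := ModSite.ringSh (O.over W)) (ULift.{u} (Fin n)) ⟶
      (ModSite.restr O W).obj G :=
    Cofan.IsColimit.desc (SheafOfModules.isColimitFreeCofan _) fun j =>
      EqFlat.mkHom (U := W) (R := ModSite.ringSh O) (M := (ModSite.restr O W).obj G) (y j)
  refine ⟨(ModSite.restr O W).map i ≫ e.inv ≫ l₀, ?_⟩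
  have key : l₀ ≫ (ModSite.restr O W).map p = e.hom ≫ (ModSite.restr O W).map (q ≫ φ) := by
    refine Cofan.IsColimit.hom_ext (SheafOfModules.isColimitFreeCofan _) _ _ fun j => ?_
    have h1 : SheafOfModules.ιFree j ≫ e.hom =
        (ModSite.restr O W).map (SheafOfModules.ιFree (R := ModSite.ringSh O) j) :=
      (SheafOfModules.ιFree_mapFreeIso_hom (ModSite.restr O W) _ (Iso.refl _) j).trans (Category.id_comp _)
    refine (Category.assoc _ _ _).symm.trans ?_
    refine (congrArg (· ≫ _) (Cofan.IsColimit.fac (SheafOfModules.isColimitFreeCofan _) _ j)).trans ?_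
    refine Eq.trans ?_ (Category.assoc _ _ _)
    refine Eq.trans ?_ (congrArg (· ≫ _) h1).symm
    refine Eq.trans ?_ ((ModSite.restr O W).map_comp (SheafOfModules.ιFree (R := ModSite.ringSh O) j) (q ≫ φ))
    refine EqFlat.hom_ext_top (U := W) (R := ModSite.ringSh O) ?_
    refine (congrArg (((ModSite.restr O W).map p).val.app (op (EqFlat.top' W)))
      (EqFlat.ev_mkHom (U := W) (R := ModSite.ringSh O) (M := (ModSite.restr O W).obj G) (y j))).trans ?_
    refine (hy j).trans ?_
    refine (res_app ((fg O).map (ι j)) g.op (1 : O.obj.obj (op V))).symm.trans ?_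
    exact congrArg ((ι j).val.app (op W)) (map_one (O.obj.map g.op).hom)
  rw [Category.assoc, Category.assoc, key, Iso.inv_hom_id_assoc]
  refine ((ModSite.restr O W).map_comp _ _).symm.trans ?_
  rw [← Category.assoc, hiq, Category.id_comp]

end Groth.Agent.SiteMod
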