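import Groth.Agent.SiteMod.ExtZero
import Groth.Agent.SiteMod.LocalLift
import Groth.Agent.ModGroth.TotMixed
import Groth.Prelude.Def_KFlatSite

/-!
# Restriction preserves K-flat complexes
-/

universe u

open CategoryTheory Limits Opposite MonoidalCategory HomologicalComplex

namespace Groth.Agent.SiteMod

open Groth.Agent.ModGroth

variable {C : Type u} [SmallCategory C] {J : GrothendieckTopology C} (O : Sheaf J CommRingCat.{u})
  (U : C)

/-- The projection formula as a compatibility of bifunctors. -/
noncomputable def extCompat :
    Mixed.ProjCompat (ModSite.tensorBi (O.over U)) (ModSite.tensorBi O) (ModSite.extZero O U)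
      (ModSite.restr O U) where
  iso A B := ((extZeroTensorIso O U B).app A).symm
  natL {A A'} a B := (extZeroTensorIso O U B).inv.naturality a
  natR A {B B'} b := by
    refine (Iso.eq_inv_comp ((extZeroTensorIso O U B).app A)).2 ?_
    refine (Category.assoc _ _ _).symm.trans ((Iso.comp_inv_eq ((extZeroTensorIso O U B').app A)).2 ?_)
    let a := (fg (O.over U)).obj A
    let f := (fg O).map b
    let e := fun N : ModSite.Mod O => (restrFgIso O U).hom.app N
    let mid := fun N : ModSite.Mod O =>
      (ModSite.extZero O U).map ((sh (O.over U)).map (a ◁ e N)) ≫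
        (extShIso O U).hom.app (a ⊗ (rP O U).obj ((fg O).obj N)) ≫
        (sh O).map (projHom O U a ((fg O).obj N)) ≫
        (EqFlat.tensorShIso N).hom.app ((extP O U).obj a) ≫
        (tR N).map ((extIso O U).inv.app A)
    change mid B ≫ ((ModSite.tensorBi O).obj _).map b =
      (ModSite.extZero O U).map ((sh (O.over U)).map
        (a ◁ (fg (O.over U)).map ((ModSite.restr O U).map b))) ≫ mid B'
    have s1 : a ◁ (fg (O.over U)).map ((ModSite.restr O U).map b) ≫ a ◁ e B' =
        a ◁ e B ≫ a ◁ (rP O U).map f := by
      rw [← MonoidalCategory.whiskerLeft_comp, ← MonoidalCategory.whiskerLeft_comp]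
      exact congrArg (a ◁ ·) ((restrFgIso O U).hom.naturality b)
    have s2 : (ModSite.extZero O U).map ((sh (O.over U)).map (a ◁ (rP O U).map f)) ≫
        (extShIso O U).hom.app _ =
          (extShIso O U).hom.app _ ≫ (sh O).map ((extP O U).map (a ◁ (rP O U).map f)) :=
      (extShIso O U).hom.naturality (a ◁ (rP O U).map f)
    have s3 : (extP O U).map (a ◁ (rP O U).map f) ≫ projHom O U a ((fg O).obj B') =
        projHom O U a ((fg O).obj B) ≫ (extP O U).obj a ◁ f := by
      have h := projHom_natural O U (𝟙 a) f
      simpa only [id_tensorHom, CategoryTheory.Functor.map_id] using h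
    have s4 : (sh O).map ((extP O U).obj a ◁ f) ≫ (EqFlat.tensorShIso B').hom.app _ =
        (EqFlat.tensorShIso B).hom.app _ ≫
          ((ModSite.tensorBi O).obj ((sh O).obj ((extP O U).obj a))).map b := by
      change (sh O).map _ ≫ (sh O).map (eta' _ ▷ _) = (sh O).map (eta' _ ▷ _) ≫ (sh O).map (_ ◁ f)
      rw [← Functor.map_comp, ← Functor.map_comp, whisker_exchange]
    have s5 : ((ModSite.tensorBi O).obj ((sh O).obj ((extP O U).obj a))).map b ≫
        (tR B').map ((extIso O U).inv.app A) =
        (tR B).map ((extIso O U).inv.app A) ≫ ((ModSite.tensorBi O).obj _).map b :=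
      ((ModSite.tensorBi O).map ((extIso O U).inv.app A)).naturality b
    dsimp only [mid]
    rw [← Functor.map_comp_assoc (ModSite.extZero O U), ← Functor.map_comp, s1, Functor.map_comp,
      Functor.map_comp_assoc, reassoc_of% s2, ← Functor.map_comp_assoc (sh O), s3,
      Functor.map_comp_assoc, reassoc_of% s4, s5]
    simp only [Category.assoc]

/-- `j_!` detects zero objects. -/
lemma isZero_of_isZero_extZero {A : ModSite.Mod (O.over U)}
    (hA : IsZero ((ModSite.extZero O U).obj A)) : IsZero A := by
  classical
  let a := (fg (O.over U)).obj A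
  have h1 : IsZero ((sh O).obj ((extP O U).obj a)) := hA.of_iso ((extIso O U).app A).symm
  have : (ModSite.restr O U).Additive := ⟨rfl⟩
  have h2 : IsZero ((sh (O.over U)).obj ((rP O U).obj ((extP O U).obj a))) :=
    (Functor.map_isZero (ModSite.restr O U) h1).of_iso ((restrShIso O U).app _)
  have h3 : Mono (unitE a) := PresheafOfModules.mono_of_injective fun W x y h => by
    refine DFinsupp.single_injective (β := fun φ : W.unop.left ⟶ U => Cp a φ) ?_
    exact h
  have : PreservesFiniteLimits (sh (O.over U)) :=
    inferInstanceAs (PreservesFiniteLimits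
      (PresheafOfModules.sheafification.{u} (𝟙 (ModSite.ringSh (O.over U)).obj)))
  have : Mono ((sh (O.over U)).map (unitE a)) := inferInstance
  exact (IsZero.of_mono ((sh (O.over U)).map (unitE a)) h2).of_iso ((shFgIso (O.over U)).app A).symm

/-- Restrictions of K-flat complexes are K-flat. -/
theorem isKFlat_restr {K : CochainComplex (ModSite.Mod O) ℤ} (hK : ModSite.IsKFlat K) :
    ModSite.IsKFlat (((ModSite.restr O U).mapHomologicalComplex (ComplexShape.up ℤ)).obj K) := by
  intro F hF i
  have : (ModSite.restr O U).Additive := ⟨rfl⟩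
  have : (ModSite.extZero O U).Additive := (ModSite.extZeroAdj O U).left_adjoint_additive
  have : PreservesColimitsOfSize.{0, 0} (ModSite.extZero O U) :=
    (ModSite.extZeroAdj O U).leftAdjoint_preservesColimits
  have : PreservesFiniteColimits (ModSite.extZero O U) :=
    PreservesColimitsOfSize.preservesFiniteColimits _
  have : PreservesFiniteLimits (ModSite.extZero O U) :=
    preservesFiniteLimits_of_mono _ fun _ _ g _ => mono_extZero_map O U g
  refine isZero_of_isZero_extZero O U ?_
  let G := (ModSite.extZero O U).mapHomologicalComplex (ComplexShape.up ℤ)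
  have hexact : ∀ (L : CochainComplex (ModSite.Mod (O.over U)) ℤ),
      (G.obj L).homology i ≅ (ModSite.extZero O U).obj (L.homology i) := fun L =>
    (L.sc i).mapHomologyIso (ModSite.extZero O U)
  have hF' : ∀ j, IsZero ((G.obj F).homology j) := fun j =>
    (Functor.map_isZero (ModSite.extZero O U) (hF j)).of_iso ((F.sc j).mapHomologyIso _)
  exact (hK (G.obj F) hF' i).of_iso ((hexact _).symm ≪≫ (homologyFunctor _ _ i).mapIso
    (Mixed.totCompareIso (extCompat O U) F K).symm)

end Groth.Agent.SiteMod
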