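import Groth.Agent.ModGroth.LTensor
import Groth.Agent.ModGroth.KFlatExact
import Groth.Agent.ModGroth.Flat

/-!
# Derived tensor products on a ringed site with a K-flat second factor
-/

universe u

open CategoryTheory CategoryTheory.Limits HomologicalComplex

attribute [local instance] HasDerivedCategory.standard

namespace Groth.Agent.SiteMod.LTensor

open Groth.Agent.ModGroth

variable {C : Type u} [SmallCategory C] {J : GrothendieckTopology C} {O : Sheaf J CommRingCat.{u}}

variable (O) in
/-- The trivial resolution. -/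
noncomputable def trivRes :
    KFlat.FunctorialRes (HomologicalComplex.quasiIso (ModSite.Mod O) (ComplexShape.up ℤ)) where
  good _ := True
  R := 𝟭 _
  q := 𝟙 _
  good_R _ := trivial
  q_mem K := (mem_quasiIso_iff _).2 (inferInstanceAs (QuasiIso (𝟙 K)))
  map_mem _ hf := hf

/-- The comparison `K ⊗ᴸ E ⟶ K ⊗ E`. -/
noncomputable def counit (E : CochainComplex (ModSite.Mod O) ℤ) [ModSite.HasLTensorCx E] :
    DerivedCategory.Q ⋙ ModSite.LTensorCx E ⟶ ModSite.tensorCxQ E :=
  (ModSite.tensorCxQ E).totalLeftDerivedCounit DerivedCategory.Q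
    (HomologicalComplex.quasiIso (ModSite.Mod O) (ComplexShape.up ℤ))

lemma isIso_counit (E : CochainComplex (ModSite.Mod O) ℤ) [ModSite.HasLTensorCx E]
    (hE : ModSite.IsKFlat E) (K : CochainComplex (ModSite.Mod O) ℤ) : IsIso ((counit E).app K) :=
  haveI : (ModSite.LTensorCx E).IsLeftDerivedFunctor (counit E)
      (HomologicalComplex.quasiIso (ModSite.Mod O) (ComplexShape.up ℤ)) :=
    inferInstanceAs (((ModSite.tensorCxQ E).totalLeftDerived DerivedCategory.Q
      (HomologicalComplex.quasiIso (ModSite.Mod O) (ComplexShape.up ℤ))).IsLeftDerivedFunctor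
        ((ModSite.tensorCxQ E).totalLeftDerivedCounit DerivedCategory.Q
          (HomologicalComplex.quasiIso (ModSite.Mod O) (ComplexShape.up ℤ))) _)
  (trivRes O).isIso_counit DerivedCategory.Q (fun P Q α _ _ hα => by
    have h : QuasiIso (((ModSite.tensorCx O).flip.obj E).map α) :=
      KFlat.FlatR.quasiIso (ModSite.tensorBi O) hE α ((mem_quasiIso_iff _).1 hα)
    exact inferInstanceAs (IsIso (DerivedCategory.Q.map (((ModSite.tensorCx O).flip.obj E).map α))))
    _ (counit E) K trivial

/-- `- ⊗ᴸ E` is `- ⊗ E` when `E` is K-flat. -/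
noncomputable def valueIso (E : CochainComplex (ModSite.Mod O) ℤ) [ModSite.HasLTensorCx E]
    (hE : ModSite.IsKFlat E) :
    DerivedCategory.Q ⋙ ModSite.LTensorCx E ≅ ModSite.tensorCxQ E :=
  @asIso _ _ _ _ (counit E)
    (@NatIso.isIso_of_isIso_app _ _ _ _ _ _ (counit E) (isIso_counit E hE))

lemma isFlat_of_isColimit_cofan₀ {ι : Type} (F : ι → ModSite.Mod O) (hF : ∀ i, ModSite.IsFlat (F i))
    (c : Cofan F) (hc : IsColimit c) : ModSite.IsFlat c.pt := by
  have := sheaf_isGrothendieckAbelian (ModSite.ringSh O)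
  have : AB4OfSize.{u} (ModSite.Mod O) := inferInstance
  have := this.ofShape (ULift.{u} ι)
  let e : Discrete (ULift.{u} ι) ≌ Discrete ι := Discrete.equivalence Equiv.ulift
  exact isFlat_of_isColimit (e.functor ⋙ Discrete.functor F) (fun k => hF _) (c.whisker e.functor)
    (hc.whiskerEquivalence e)

/-- Degrees of the tensor product of flat complexes are flat. -/
lemma isFlat_tensorCx_X {P F : CochainComplex (ModSite.Mod O) ℤ} (hP : ∀ i, ModSite.IsFlat (P.X i))
    (hF : ∀ i, ModSite.IsFlat (F.X i)) (n : ℤ) :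
    ModSite.IsFlat ((((ModSite.tensorCx O).obj P).obj F).X n) :=
  isFlat_of_isColimit_cofan₀ (fun x : DegIdx n => ((ModSite.tensorBi O).obj (P.X x.1.1)).obj (F.X x.1.2))
    (fun x => isFlat_tensor (hP _) (hF _)) _ (isColimitDegCofan (ModSite.tensorBi O) P F n)

/-- Degrees outside the range of the summands vanish. -/
lemma isZero_tensorCx_X (P F : CochainComplex (ModSite.Mod O) ℤ) (n : ℤ)
    (h : ∀ p q : ℤ, p + q = n → IsZero (P.X p) ∨ IsZero (F.X q)) :
    IsZero ((((ModSite.tensorCx O).obj P).obj F).X n) := by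
  rw [IsZero.iff_id_eq_zero]
  refine mapBifunctor.hom_ext fun p q hpq => IsZero.eq_of_src ?_ _ _
  rcases h p q hpq with h' | h'
  · have := tR_additive (O := O) (F.X q)
    exact Functor.map_isZero (tR (F.X q)) h'
  · have := tL_additive (O := O) (P.X p)
    exact Functor.map_isZero (tL (P.X p)) h'

end Groth.Agent.SiteMod.LTensor
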