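import Groth.Agent.SiteMod.Restr
import Groth.Agent.ModGroth.SiteStalk
import Groth.Agent.PullFlat.Cone
import Groth.Agent.PullFlat.Coeff
import Groth.Agent.EqFlat.Key

/-!
# The equational criterion characterises flatness; flatness of restrictions
-/

universe u

open CategoryTheory Limits Opposite MonoidalCategory
open scoped TensorProduct

namespace Groth.Agent.SiteMod

open Groth.Agent.ModGroth
open Groth.Agent.PullFlat (Loc)

variable {C : Type u} [SmallCategory C] {J : GrothendieckTopology C} {O : Sheaf J CommRingCat.{u}}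

/-- Finitely many relations between sections are locally trivial. -/
def Crit (N : ModSite.Mod O) : Prop :=
  ∀ (U : C) (s r : ℕ) (A : Fin r → Fin s → O.obj.obj (op U)) (h : Fin s → ((fg O).obj N).obj (op U)),
    (∀ i, ∑ j, A i j • h j = 0) →
    ∃ S ∈ J U, ∀ ⦃V : C⦄ (g : V ⟶ U), S g →
      ∃ (t : ℕ) (b : Fin s → Fin t → O.obj.obj (op V)) (y : Fin t → ((fg O).obj N).obj (op V)),
        (∀ j, res ((fg O).obj N) g.op (h j) = ∑ k, b j k • y k) ∧
        ∀ i k, ∑ j, (O.obj.map g.op).hom (A i j) * b j k = 0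

lemma crit_of_isFlat {N : ModSite.Mod O} (hN : ModSite.IsFlat N) : Crit N :=
  fun _ _ r A h hAh => EqFlat.exists_local_trivialisation_matrix hN r A h hAh

lemma res_tmul (A P : PM O) {V W : C} (g : W ⟶ V) (a : A.obj (op V)) (x : P.obj (op V)) :
    res (A ⊗ P : PM O) g.op (a ⊗ₜ[O.obj.obj (op V)] x) =
      res A g.op a ⊗ₜ[O.obj.obj (op W)] res P g.op x := rfl

theorem loc_zero_of_crit {N : ModSite.Mod O} (hN : Crit N) {A B : PM O} (g : A ⟶ B)
    (hg : ∀ W : Cᵒᵖ, Function.Injective (g.app W)) {V : C}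
    (z : (A ⊗ (fg O).obj N : PM O).obj (op V)) (hz : (g ▷ (fg O).obj N).app (op V) z = 0) :
    Loc J fun Z (k : Z ⟶ V) => res (A ⊗ (fg O).obj N : PM O) k.op z = 0 := by
  classical
  obtain ⟨T, rfl⟩ := TensorProduct.exists_finset
    (show A.obj (op V) ⊗[O.obj.obj (op V)] ((fg O).obj N).obj (op V) from z)
  let a : T → A.obj (op V) := fun i => i.1.1
  let μ : T → ((fg O).obj N).obj (op V) := fun i => i.1.2
  let b : T → B.obj (op V) := fun i => g.app (op V) (a i)
  have h0 : ∑ i, b i ⊗ₜ[O.obj.obj (op V)] μ i = 0 := by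
    refine Eq.trans ?_ hz
    rw [← Finset.sum_coe_sort T]
    refine Eq.trans ?_ (map_sum ((g ▷ (fg O).obj N).app (op V)).hom _ _).symm
    rfl
  obtain ⟨r, ρ, n, hρ, hn⟩ := PullFlat.exists_coeff b μ h0
  let Sset : Finset (B.obj (op V)) := Finset.univ.image b ∪ Finset.univ.biUnion fun k => (ρ k).support
  let out := Sset \ Finset.univ.image b
  let row := out.equivFin.symm
  obtain ⟨S, hS, hS'⟩ := hN V r out.card (fun i k => ρ k (row i).1) n fun i => by
    rw [← hn, Finset.filter_false_of_mem, Finset.sum_empty]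
    intro j _ hj
    exact (Finset.mem_sdiff.1 (row i).2).2 (Finset.mem_image.2 ⟨j, Finset.mem_univ j, hj⟩)
  refine ⟨S, hS, fun Z k hk => ?_⟩
  obtain ⟨t, c', y, hy, hc'⟩ := hS' k hk
  let coef : B.obj (op V) → Fin r → O.obj.obj (op Z) := fun c j => (O.obj.map k.op).hom (ρ j c)
  have hout : ∀ c ∈ out, ∀ l, ∑ j, coef c j * c' j l = 0 := by
    intro c hc l
    obtain ⟨i, hi⟩ := row.surjective ⟨c, hc⟩
    refine Eq.trans ?_ (hc' i l)
    simp only [coef, hi]
  have hrel : ∀ j, ∑ c ∈ Sset, coef c j • res B k.op c = 0 := by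
    intro j
    have hj : ∑ c ∈ Sset, ρ j c • c = 0 := by
      refine Eq.trans ?_ (hρ j)
      rw [Finsupp.linearCombination_apply, Finsupp.sum_of_support_subset (ρ j) (s := Sset)
        (fun x hx => Finset.mem_union_right _ (Finset.mem_biUnion.2 ⟨j, Finset.mem_univ j, hx⟩))
        (fun x c => c • id x) fun x _ => zero_smul _ _]
      rfl
    have := congrArg (res B k.op) hj
    rw [map_sum, map_zero] at this
    refine Eq.trans ?_ this
    exact Finset.sum_congr rfl fun c _ => (res_smul B k.op _ _).symm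
  let Im := Finset.univ.image a
  let X : Fin t → A.obj (op Z) := fun l =>
    ∑ c ∈ Im, (∑ j, coef (g.app (op V) c) j * c' j l) • res A k.op c
  have hX : ∀ l, X l = 0 := by
    intro l
    apply hg (op Z)
    refine Eq.trans ?_ (map_zero _).symm
    refine (map_sum (g.app (op Z)).hom _ _).trans ?_
    have him : Finset.univ.image b = Im.image (g.app (op V)) := (Finset.image_image ..).symm
    refine Eq.trans (b := ∑ c ∈ Im.image (g.app (op V)),
      (∑ j, coef c j * c' j l) • res B k.op c) ?_ ?_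
    · rw [Finset.sum_image fun x _ y _ hxy => hg (op V) hxy]
      refine Finset.sum_congr rfl fun c _ => ?_
      refine (map_smul (g.app (op Z)).hom _ _).trans ?_
      exact congrArg _ (res_app g k.op c)
    rw [← him, Finset.sum_subset (s₂ := Sset) Finset.subset_union_left fun c hc hc' => by
      rw [hout c (Finset.mem_sdiff.2 ⟨hc, hc'⟩) l, zero_smul]]
    simp only [Finset.sum_smul]
    rw [Finset.sum_comm]
    refine Finset.sum_eq_zero fun j _ => ?_
    simp only [mul_comm (coef _ j), ← smul_smul, ← Finset.smul_sum, hrel, smul_zero]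
  have hcl : ∀ c ∈ Im, res ((fg O).obj N) k.op (∑ i ∈ Finset.univ.filter (fun i => a i = c), μ i) =
      ∑ l, (∑ j, coef (g.app (op V) c) j * c' j l) • y l := by
    intro c _
    have e1 : Finset.univ.filter (fun i => a i = c) =
        Finset.univ.filter (fun i => b i = g.app (op V) c) :=
      Finset.filter_congr fun i _ => (hg (op V)).eq_iff.symm
    rw [e1, hn, map_sum]
    simp only [res_smul, hy, Finset.smul_sum, smul_smul, Finset.sum_smul, coef]
    rw [Finset.sum_comm]
  have hsplit : res (A ⊗ (fg O).obj N : PM O) k.op (∑ p ∈ T, p.1 ⊗ₜ[O.obj.obj (op V)] p.2) =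
      ∑ c ∈ Im, res A k.op c ⊗ₜ[O.obj.obj (op Z)]
        res ((fg O).obj N) k.op (∑ i ∈ Finset.univ.filter (fun i => a i = c), μ i) := by
    refine (map_sum (res (A ⊗ (fg O).obj N : PM O) k.op) _ _).trans ?_
    rw [← Finset.sum_coe_sort T, ← Finset.sum_fiberwise_of_maps_to (g := a) (t := Im)
      fun i _ => Finset.mem_image_of_mem a (Finset.mem_univ i)]
    refine Finset.sum_congr rfl fun c _ => ?_
    rw [map_sum]
    refine Eq.trans ?_ (TensorProduct.tmul_sum _ _ _).symm
    refine Finset.sum_congr rfl fun i hi => ?_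
    rw [← (Finset.mem_filter.1 hi).2]
    exact res_tmul A _ k _ _
  refine hsplit.trans ?_
  refine (Finset.sum_congr rfl fun c hc => (congrArg (res A k.op c ⊗ₜ[O.obj.obj (op Z)] ·)
    (hcl c hc)).trans (TensorProduct.tmul_sum _ _ _)).trans ?_
  rw [Finset.sum_comm]
  refine Finset.sum_eq_zero fun l _ => ?_
  refine (Finset.sum_congr rfl fun c _ => (TensorProduct.smul_tmul _ _ _).symm).trans ?_
  refine (TensorProduct.sum_tmul _ _ _).symm.trans ?_
  exact (congrArg (· ⊗ₜ[O.obj.obj (op Z)] y l) (hX l)).trans (TensorProduct.zero_tmul _ _)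

/-- The equational criterion implies flatness. -/
theorem isFlat_of_crit {N : ModSite.Mod O} (hN : Crit N) : ModSite.IsFlat N := by
  refine isFlat_of_mono fun A B g _ => ?_
  have := SiteStalk.mono_forget g
  refine (SiteStalk.mono_sh_map_iff' ((fg O).map g ▷ (fg O).obj N)).2 ⟨fun {V} x y h => ?_⟩
  obtain ⟨V⟩ := V
  obtain ⟨S, hS, hS'⟩ := loc_zero_of_crit hN ((fg O).map g)
    (fun W => PresheafOfModules.injective_of_mono _ W)
    (x - y : ((fg O).obj A ⊗ (fg O).obj N : PM O).obj (op V))
    ((map_sub (((fg O).map g ▷ (fg O).obj N).app (op V)).hom x y).trans (sub_eq_zero.2 h))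
  refine J.superset_covering (fun W k hk => ?_) hS
  exact sub_eq_zero.1 ((map_sub (res ((fg O).obj A ⊗ (fg O).obj N : PM O) k.op) x y).symm.trans
    (hS' k hk))

/-- Restrictions of flat modules are flat. -/
theorem isFlat_restr {M : ModSite.Mod O} (hM : ModSite.IsFlat M) (U : C) :
    ModSite.IsFlat ((ModSite.restr O U).obj M) := by
  refine isFlat_of_crit fun Y s r A h hAh => ?_
  obtain ⟨S, hS, hS'⟩ := crit_of_isFlat hM Y.left s r A h hAh
  refine ⟨_, J.overEquiv_symm_mem_over Y S hS, fun V g hg => ?_⟩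
  exact hS' g.left hg

end Groth.Agent.SiteMod
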