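import Groth.Agent.ModGroth.Flat
import Mathlib.Algebra.Category.ModuleCat.Presheaf.PushforwardZeroMonoidal

/-!
# Restriction to a localised site commutes with sheafification and tensor products
-/

universe u

open CategoryTheory Limits Opposite MonoidalCategory
open scoped TensorProduct

namespace Groth.Agent.SiteMod

open Groth.Agent.ModGroth

variable {C : Type u} [SmallCategory C] {J : GrothendieckTopology C} (O : Sheaf J CommRingCat.{u})
  (U : C)

/-- Restriction of presheaves of modules to `C/U`. -/
noncomputable abbrev rP : PM O ⥤ PM (O.over U) :=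
  PresheafOfModules.pushforward₀OfCommRingCat (Over.forget U) O.obj

/-- The presheaf underlying a restricted sheaf. -/
noncomputable def restrFgIso : ModSite.restr O U ⋙ fg (O.over U) ≅ fg O ⋙ rP O U :=
  NatIso.ofComponents (fun _ => PresheafOfModules.isoMk (fun _ => Iso.refl _) fun _ _ _ => rfl)
    fun _ => rfl

variable {O U}

lemma over_isLocallyInjective {P Q : PM O} (θ : P ⟶ Q) [Presheaf.IsLocallyInjective J (pmap θ)] :
    Presheaf.IsLocallyInjective (J.over U) (pmap ((rP O U).map θ)) where
  equalizerSieve_mem {W} x y h := by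
    have := Presheaf.equalizerSieve_mem J (pmap θ) (X := op W.unop.left) x y h
    refine GrothendieckTopology.superset_covering _ (fun Z g hg => ?_)
      (J.overEquiv_symm_mem_over W.unop _ this)
    exact hg

lemma over_isLocallySurjective {P Q : PM O} (θ : P ⟶ Q) [Presheaf.IsLocallySurjective J (pmap θ)] :
    Presheaf.IsLocallySurjective (J.over U) (pmap ((rP O U).map θ)) where
  imageSieve_mem {W} s := by
    have := Presheaf.imageSieve_mem J (pmap θ) (U := op W.left) s
    refine GrothendieckTopology.superset_covering _ (fun Z g hg => ?_)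
      (J.overEquiv_symm_mem_over W _ this)
    exact hg

lemma over_isIso_sh_map {P Q : PM O} (θ : P ⟶ Q) [IsIso ((sh O).map θ)] :
    IsIso ((sh (O.over U)).map ((rP O U).map θ)) := by
  obtain ⟨_, _⟩ := (isLocallyBijective_pmap_iff θ).1 inferInstance
  exact (isLocallyBijective_pmap_iff _).2 ⟨over_isLocallyInjective θ, over_isLocallySurjective θ⟩

variable (O) in
/-- The unit of sheafification, as a natural transformation. -/
noncomputable def etaNat : 𝟭 (PM O) ⟶ sh O ⋙ fg O where
  app := eta'
  naturality _ _ θ := eta'_naturality θ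

variable (O) in
/-- The counit of sheafification, as an isomorphism. -/
noncomputable def shFgIso : fg O ⋙ sh O ≅ 𝟭 (ModSite.Mod O) :=
  @asIso _ _ _ _ (adjn O).counit (inferInstanceAs (IsIso (PresheafOfModules.sheafificationAdjunction
    (𝟙 (ModSite.ringSh O).obj)).counit))

variable (O U)

/-- The comparison map. -/
noncomputable def restrShHom : rP O U ⋙ sh (O.over U) ⟶ sh O ⋙ (fg O ⋙ rP O U) ⋙ sh (O.over U) :=
  Functor.whiskerRight (Functor.whiskerRight (etaNat O) (rP O U)) (sh (O.over U))

lemma isIso_restrShHom : IsIso (restrShHom O U) :=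
  have : ∀ P, IsIso ((restrShHom O U).app P) := fun P => by
    have : IsIso ((sh O).map (eta' P)) := isIso_sheafify_eta P
    exact over_isIso_sh_map (eta' P)
  NatIso.isIso_of_isIso_app _

/-- Sheafification commutes with restriction. -/
noncomputable def restrShIso : rP O U ⋙ sh (O.over U) ≅ sh O ⋙ ModSite.restr O U :=
  @asIso _ _ _ _ (restrShHom O U) (isIso_restrShHom O U) ≪≫
    Functor.isoWhiskerLeft (sh O)
      (Functor.isoWhiskerRight (restrFgIso O U).symm (sh (O.over U)) ≪≫
        Functor.associator _ _ _ ≪≫ Functor.isoWhiskerLeft (ModSite.restr O U) (shFgIso (O.over U)) ≪≫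
        Functor.rightUnitor _)

/-- Restriction of presheaves is monoidal. -/
noncomputable def muI (A B : PM O) : (rP O U).obj (A ⊗ B) ≅ (rP O U).obj A ⊗ (rP O U).obj B :=
  PresheafOfModules.isoMk (fun _ => Iso.refl _)
    fun W _ _ => ModuleCat.MonoidalCategory.tensor_ext (R := O.obj.obj (op W.unop.left)) fun _ _ => rfl

lemma muI_natural {A A' B B' : PM O} (a : A ⟶ A') (b : B ⟶ B') :
    (rP O U).map (tensorHom a b) ≫ (muI O U A' B').hom =
      (muI O U A B).hom ≫ tensorHom ((rP O U).map a) ((rP O U).map b) :=
  PresheafOfModules.hom_ext fun W =>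
    ModuleCat.MonoidalCategory.tensor_ext (R := O.obj.obj (op W.unop.left)) fun _ _ => rfl

/-- Restriction commutes with the tensor product. -/
noncomputable def restrTensorIso (M : ModSite.Mod O) :
    (ModSite.tensorBi O).flip.obj M ⋙ ModSite.restr O U ≅
      ModSite.restr O U ⋙ (ModSite.tensorBi (O.over U)).flip.obj ((ModSite.restr O U).obj M) :=
  Functor.isoWhiskerLeft (fg O ⋙ tensorRight ((fg O).obj M)) (restrShIso O U).symm ≪≫
    Functor.isoWhiskerRight
      (NatIso.ofComponents (F := fg O ⋙ tensorRight ((fg O).obj M) ⋙ rP O U)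
        (G := ModSite.restr O U ⋙ fg (O.over U) ⋙
          tensorRight ((fg (O.over U)).obj ((ModSite.restr O U).obj M)))
        (fun N => muI O U _ _ ≪≫
          tensorIso ((restrFgIso O U).app N).symm ((restrFgIso O U).app M).symm)
        fun {_ _} _ => PresheafOfModules.hom_ext fun W =>
          ModuleCat.MonoidalCategory.tensor_ext (R := O.obj.obj (op W.unop.left)) fun _ _ => rfl)
      (sh (O.over U))

end Groth.Agent.SiteMod
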