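import Groth.Agent.KFlat.Tensor

/-!
# Tensoring a complex with an object placed in degree zero on the left
-/

universe v u

open CategoryTheory CategoryTheory.Limits HomologicalComplex

namespace Groth.Agent.SiteMod.LeftSingle

variable {C : Type u} [Category.{v} C] [Abelian C] (F : C ⥤ C ⥤ C) [F.Additive] [∀ X, (F.obj X).Additive]
  [∀ K L : CochainComplex C ℤ, HasMapBifunctor K L F (ComplexShape.up ℤ)]
  (M : CochainComplex C ℤ)

/-- `(P ⊗ -)` applied termwise, as a functor of `P`. -/
@[simps]
noncomputable def termwise : C ⥤ CochainComplex C ℤ where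
  obj P := ((F.obj P).mapHomologicalComplex (ComplexShape.up ℤ)).obj M
  map g := (NatTrans.mapHomologicalComplex (F.map g) (ComplexShape.up ℤ)).app M
  map_id P := by ext n; simp
  map_comp g h := by ext n; simp

/-- Degree `n` of `P[0] ⊗ M`. -/
noncomputable def singleX (P : C) (n : ℤ) :
    (F.obj P).obj (M.X n) ≅
      (mapBifunctor ((single C (ComplexShape.up ℤ) 0).obj P) M F (ComplexShape.up ℤ)).X n where
  hom := (F.map (singleObjXSelf (ComplexShape.up ℤ) 0 P).inv).app (M.X n) ≫
    ιMapBifunctor _ M F _ 0 n n (zero_add n)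
  inv := mapBifunctorDesc fun p q h =>
    if hp : p = 0 then
      (F.map (singleObjXIsoOfEq (ComplexShape.up ℤ) 0 P p hp).hom).app _ ≫
        (F.obj P).map (M.XIsoOfEq (show q = n by subst hp; simpa using h)).hom
    else 0
  hom_inv_id := by
    rw [Category.assoc, ι_mapBifunctorDesc, dif_pos rfl]
    simp [singleObjXSelf, ← Functor.map_comp, ← NatTrans.comp_app_assoc]
  inv_hom_id := mapBifunctor.hom_ext fun p q h => by
    rw [ι_mapBifunctorDesc_assoc]
    by_cases hp : p = 0
    · subst hp
      obtain rfl : q = n := by simpa using h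
      rw [dif_pos rfl]
      simp [singleObjXSelf, ← Functor.map_comp, ← NatTrans.comp_app_assoc]
    · exact ((Functor.map_isZero (F.flip.obj (M.X q))
        (isZero_single_obj_X (ComplexShape.up ℤ) 0 P p hp)).eq_of_src _ _)

lemma singleX_d (P : C) (i j : ℤ) (hij : i + 1 = j) :
    (singleX F M P i).hom ≫
        (mapBifunctor ((single C (ComplexShape.up ℤ) 0).obj P) M F (ComplexShape.up ℤ)).d i j =
      (F.obj P).map (M.d i j) ≫ (singleX F M P j).hom := by
  dsimp [singleX]
  rw [Category.assoc, mapBifunctor.d_eq, Preadditive.comp_add, mapBifunctor.ι_D₁, mapBifunctor.ι_D₂,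
    mapBifunctor.d₂_eq _ M F _ 0 hij j (by simp)]
  have hd : mapBifunctor.d₁ ((single C (ComplexShape.up ℤ) 0).obj P) M F (ComplexShape.up ℤ) 0 i j = 0 := by
    rw [mapBifunctor.d₁_eq _ M F (ComplexShape.up ℤ) (show (ComplexShape.up ℤ).Rel 0 (0 + 1) from rfl) i j
      (by simp; omega)]
    simp
  rw [hd]
  simp [NatTrans.naturality_assoc]

/-- `P[0] ⊗ M ≅ (P ⊗ -)` applied termwise, naturally in `P`. -/
noncomputable def leftSingleIso :
    termwise F M ≅ CochainComplex.singleFunctor C 0 ⋙ KFlat.tensL F M :=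
  NatIso.ofComponents
    (fun P => Hom.isoOfComponents (fun n => singleX F M P n) fun i j hij => singleX_d F M P i j hij)
    fun {P Q} g => by
      ext n
      change (F.map g).app (M.X n) ≫ (singleX F M Q n).hom = (singleX F M P n).hom ≫
        (mapBifunctorMap ((single C (ComplexShape.up ℤ) 0).map g) (𝟙 M) F (ComplexShape.up ℤ)).f n
      simp [singleX, single_map_f_self, ← NatTrans.comp_app_assoc, ← Functor.map_comp]

end Groth.Agent.SiteMod.LeftSingle
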