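import Groth.Agent.SiteMod.LTensorSite
import Groth.Agent.SiteMod.LeftSingle
import Groth.Agent.ModGroth.LTensorCx
import Groth.Agent.ModGroth.FlatSeq
import Mathlib.Algebra.Homology.ShortComplex.ExactFunctor
import Mathlib.Algebra.Homology.HomologySequence

/-!
# Exactness of `M ↦ H^p(M ⊗ᴸ E)`
-/

universe u

open CategoryTheory CategoryTheory.Limits HomologicalComplex

attribute [local instance] HasDerivedCategory.standard

namespace Groth.Agent.SiteMod.LTensor

open Groth.Agent.ModGroth

variable {C : Type u} [SmallCategory C] {J : GrothendieckTopology C} {O : Sheaf J CommRingCat.{u}}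

/-- `M ↦ M ⊗ E` termwise. -/
noncomputable abbrev tw (E : CochainComplex (ModSite.Mod O) ℤ) :
    ModSite.Mod O ⥤ CochainComplex (ModSite.Mod O) ℤ :=
  LeftSingle.termwise (ModSite.tensorBi O) E

/-- `M ↦ H^p(M ⊗ E)`. -/
noncomputable abbrev Hp (E : CochainComplex (ModSite.Mod O) ℤ) (p : ℤ) : ModSite.Mod O ⥤ ModSite.Mod O :=
  tw E ⋙ homologyFunctor (ModSite.Mod O) (ComplexShape.up ℤ) p

variable (E : CochainComplex (ModSite.Mod O) ℤ) [ModSite.HasLTensorCx E]

/-- The derived functor is `H^p(- ⊗ E')` for a K-flat resolution `E'`. -/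
lemma nonempty_iso_Hp {E' : CochainComplex (ModSite.Mod O) ℤ} (q : E' ⟶ E) (hq : QuasiIso q)
    (hE' : ModSite.IsKFlat E') (p : ℤ) :
    Nonempty (DerivedCategory.singleFunctor (ModSite.Mod O) 0 ⋙ ModSite.LTensorCx E ⋙
      DerivedCategory.homologyFunctor (ModSite.Mod O) p ≅ Hp E' p) := by
  let Q : CochainComplex (ModSite.Mod O) ℤ ⥤ DerivedCategory (ModSite.Mod O) := DerivedCategory.Q
  let R := (kres O).R
  have hres : ∀ K, QuasiIso ((kres O).q.app K) := fun K => (mem_quasiIso_iff _).1 ((kres O).q_mem K)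
  -- resolve the first factor
  let a : R ⋙ Q ⋙ ModSite.LTensorCx E ⟶ Q ⋙ ModSite.LTensorCx E :=
    Functor.whiskerRight (kres O).q (Q ⋙ ModSite.LTensorCx E)
  have ha : IsIso a := by
    have : ∀ K, IsIso (a.app K) := fun K => by
      have : IsIso (Q.map ((kres O).q.app K)) := by
        have := hres K
        infer_instance
      exact inferInstanceAs (IsIso ((ModSite.LTensorCx E).map (Q.map ((kres O).q.app K))))
    exact NatIso.isIso_of_isIso_app a
  let b : R ⋙ Q ⋙ ModSite.LTensorCx E ⟶ R ⋙ ModSite.tensorCxQ E := Functor.whiskerLeft R (counit E)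
  have hinv : (kres O).Inverts (ModSite.tensorCxQ E) := fun P Q α hP hQ hα => by
    have h : QuasiIso (((ModSite.tensorCx O).flip.obj E).map α) :=
      quasiIso_tensor_right α ((mem_quasiIso_iff _).1 hα) hP hQ E
    exact inferInstanceAs (IsIso (DerivedCategory.Q.map (((ModSite.tensorCx O).flip.obj E).map α)))
  have hb : IsIso b := by
    haveI : (ModSite.LTensorCx E).IsLeftDerivedFunctor (counit E)
        (HomologicalComplex.quasiIso (ModSite.Mod O) (ComplexShape.up ℤ)) :=
      inferInstanceAs (((ModSite.tensorCxQ E).totalLeftDerived DerivedCategory.Q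
        (HomologicalComplex.quasiIso (ModSite.Mod O) (ComplexShape.up ℤ))).IsLeftDerivedFunctor
          ((ModSite.tensorCxQ E).totalLeftDerivedCounit DerivedCategory.Q
            (HomologicalComplex.quasiIso (ModSite.Mod O) (ComplexShape.up ℤ))) _)
    have : ∀ K, IsIso (b.app K) := fun K =>
      (kres O).isIso_counit DerivedCategory.Q hinv _ (counit E) _ ((kres O).good_R K)
    exact NatIso.isIso_of_isIso_app b
  -- resolve the second factor
  let c : R ⋙ ModSite.tensorCxQ E' ⟶ R ⋙ ModSite.tensorCxQ E :=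
    Functor.whiskerLeft R (Functor.whiskerRight ((ModSite.tensorCx O).flip.map q) Q)
  have hc : IsIso c := by
    have : ∀ K, IsIso (c.app K) := fun K => by
      have h : QuasiIso (((ModSite.tensorCx O).obj (R.obj K)).map q) :=
        KFlat.FlatL.quasiIso (ModSite.tensorBi O) (flatL_site ((kres O).good_R K)) q hq
      exact inferInstanceAs (IsIso (Q.map (((ModSite.tensorCx O).obj (R.obj K)).map q)))
    exact NatIso.isIso_of_isIso_app c
  let d : R ⋙ ModSite.tensorCxQ E' ⟶ ModSite.tensorCxQ E' :=
    Functor.whiskerRight (kres O).q (ModSite.tensorCxQ E')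
  have hd : IsIso d := by
    have : ∀ K, IsIso (d.app K) := fun K => by
      have h : QuasiIso (((ModSite.tensorCx O).flip.obj E').map ((kres O).q.app K)) :=
        KFlat.FlatR.quasiIso (ModSite.tensorBi O) hE' _ (hres K)
      exact inferInstanceAs (IsIso (Q.map (((ModSite.tensorCx O).flip.obj E').map ((kres O).q.app K))))
    exact NatIso.isIso_of_isIso_app d
  let e : Q ⋙ ModSite.LTensorCx E ≅ ModSite.tensorCxQ E' :=
    (asIso a).symm ≪≫ asIso b ≪≫ (asIso c).symm ≪≫ asIso d
  exact ⟨Functor.isoWhiskerRight (DerivedCategory.singleFunctorIsoCompQ (ModSite.Mod O) 0) _ ≪≫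
    Functor.associator _ _ _ ≪≫
    Functor.isoWhiskerLeft (CochainComplex.singleFunctor (ModSite.Mod O) 0)
      (Functor.isoWhiskerRight e (DerivedCategory.homologyFunctor (ModSite.Mod O) p) ≪≫
        Functor.associator _ _ _ ≪≫
        Functor.isoWhiskerLeft _ (DerivedCategory.homologyFunctorFactors (ModSite.Mod O) p)) ≪≫
    (Functor.associator _ _ _).symm ≪≫
    Functor.isoWhiskerRight (LeftSingle.leftSingleIso (ModSite.tensorBi O) E').symm _⟩

omit [ModSite.HasLTensorCx E] in
instance : (tw E).Additive where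
  map_add {M N g g'} := by
    refine HomologicalComplex.hom_ext _ _ fun n => ?_
    exact congrArg (fun t => NatTrans.app t (E.X n)) ((ModSite.tensorBi O).map_add (f := g) (g := g'))

variable {E} {F : CochainComplex (ModSite.Mod O) ℤ}

lemma shortExact_tw (hF : ∀ n, ModSite.IsFlat (F.X n)) {S : ShortComplex (ModSite.Mod O)}
    (hS : S.ShortExact) : (S.map (tw F)).ShortExact :=
  shortExact_of_degreewise_shortExact _ fun n => by
    have := (hF n).1
    have := (hF n).2
    have h : (S.map ((ModSite.tensorBi O).flip.obj (F.X n))).ShortExact := hS.map_of_exact _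
    exact h

/-- `H^p(- ⊗ F)` is exact in the middle. -/
lemma exact_Hp (hF : ∀ n, ModSite.IsFlat (F.X n)) (p : ℤ) {S : ShortComplex (ModSite.Mod O)}
    (hS : S.ShortExact) : (S.map (Hp F p)).Exact :=
  (shortExact_tw hF hS).homology_exact₂ p

/-- Right exactness in degree `p` is left exactness in degree `p + 1`. -/
theorem rightExact_iff_leftExact_succ (hF : ∀ n, ModSite.IsFlat (F.X n)) (p : ℤ) :
    PreservesFiniteColimits (Hp F p) ↔ PreservesFiniteLimits (Hp F (p + 1)) := by
  rw [show PreservesFiniteColimits (Hp F p) ↔ _ from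
    ((Functor.preservesFiniteColimits_tfae (Hp F p)).out 0 3).symm,
    show PreservesFiniteLimits (Hp F (p + 1)) ↔ _ from
    ((Functor.preservesFiniteLimits_tfae (Hp F (p + 1))).out 0 3).symm]
  refine forall₂_congr fun S hS => ?_
  have h := shortExact_tw hF hS
  have hrel : (ComplexShape.up ℤ).Rel p (p + 1) := rfl
  refine ⟨fun ⟨_, he⟩ => ⟨exact_Hp hF _ hS, ?_⟩, fun ⟨_, hm⟩ => ⟨exact_Hp hF _ hS, ?_⟩⟩
  · have he' : Epi (homologyMap (S.map (tw F)).g p) := he
    have hδ : h.δ p (p + 1) hrel = 0 := by
      rw [← cancel_epi (homologyMap (S.map (tw F)).g p), h.comp_δ, comp_zero]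
    exact (h.homology_exact₁ p (p + 1) hrel).mono_g hδ
  · have hm' : Mono (homologyMap (S.map (tw F)).f (p + 1)) := hm
    have hδ : h.δ p (p + 1) hrel = 0 := by
      rw [← cancel_mono (homologyMap (S.map (tw F)).f (p + 1)), h.δ_comp, zero_comp]
    exact (h.homology_exact₃ p (p + 1) hrel).epi_f hδ

section Coker

variable (F) (p : ℤ)

/-- `π ⊗ M` is a cokernel. -/
noncomputable def isColimitTwCokernel (M : ModSite.Mod O) :
    IsColimit (CokernelCofork.ofπ (f := ((tw F).obj M).d p (p + 1))
      (((ModSite.tensorBi O).obj M).map (cokernel.π (F.d p (p + 1))))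
      (((((ModSite.tensorBi O).obj M).map_comp _ _).symm.trans
        ((congrArg ((ModSite.tensorBi O).obj M).map (cokernel.condition _)).trans
          (Functor.map_zero _ _ _))))) :=
  have := tL_preservesColimits M
  have : PreservesFiniteColimits ((ModSite.tensorBi O).obj M) := tL_preservesFiniteColimits M
  isColimitOfHasCokernelOfPreservesColimit ((ModSite.tensorBi O).obj M) (F.d p (p + 1))

/-- Opcycles of `M ⊗ F`. -/
noncomputable def opcyclesTwIso (M : ModSite.Mod O) :
    ((tw F).obj M).opcycles (p + 1) ≅ ((ModSite.tensorBi O).obj M).obj (cokernel (F.d p (p + 1))) :=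
  (((tw F).obj M).opcyclesIsCokernel p (p + 1) (by simp)).coconePointUniqueUpToIso
    (isColimitTwCokernel F p M)

@[reassoc]
lemma p_opcyclesTwIso (M : ModSite.Mod O) :
    ((tw F).obj M).pOpcycles (p + 1) ≫ (opcyclesTwIso F p M).hom =
      ((ModSite.tensorBi O).obj M).map (cokernel.π (F.d p (p + 1))) :=
  (((tw F).obj M).opcyclesIsCokernel p (p + 1) (by simp)).comp_coconePointUniqueUpToIso_hom
    (isColimitTwCokernel F p M) WalkingParallelPair.one

lemma opcyclesTwIso_natural {M N : ModSite.Mod O} (g : M ⟶ N) :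
    opcyclesMap ((tw F).map g) (p + 1) ≫ (opcyclesTwIso F p N).hom =
      (opcyclesTwIso F p M).hom ≫ ((ModSite.tensorBi O).map g).app (cokernel (F.d p (p + 1))) := by
  rw [← cancel_epi (((tw F).obj M).pOpcycles (p + 1)), p_opcyclesMap_assoc, p_opcyclesTwIso,
    p_opcyclesTwIso_assoc]
  exact ((ModSite.tensorBi O).map g).naturality _ |>.symm

/-- Left exactness in degree `p + 1` is flatness of the cokernel. -/
theorem leftExact_succ_iff_isFlat (hF : ∀ n, ModSite.IsFlat (F.X n)) :
    PreservesFiniteLimits (Hp F (p + 1)) ↔ ModSite.IsFlat (cokernel (F.d p (p + 1))) := by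
  constructor
  · intro h
    refine isFlat_of_mono fun M N g hg => ?_
    have := hg
    have hH : Mono ((Hp F (p + 1)).map g) := inferInstance
    have hg2 : Mono (((ModSite.tensorBi O).flip.obj (F.X (p + 1 + 1))).map g) :=
      mono_tR_map (hF _) g
    suffices Mono (opcyclesMap ((tw F).map g) (p + 1)) by
      have e : ((ModSite.tensorBi O).map g).app (cokernel (F.d p (p + 1))) =
          (opcyclesTwIso F p M).inv ≫ opcyclesMap ((tw F).map g) (p + 1) ≫ (opcyclesTwIso F p N).hom := by
        rw [opcyclesTwIso_natural, Iso.inv_hom_id_assoc]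
      change Mono (((ModSite.tensorBi O).map g).app (cokernel (F.d p (p + 1))))
      rw [e]
      infer_instance
    refine Preadditive.mono_of_cancel_zero _ fun {A} x hx => ?_
    have hnat : ((tw F).obj M).fromOpcycles (p + 1) (p + 1 + 1) ≫ ((tw F).map g).f (p + 1 + 1) =
        opcyclesMap ((tw F).map g) (p + 1) ≫ ((tw F).obj N).fromOpcycles (p + 1) (p + 1 + 1) := by
      rw [← cancel_epi (((tw F).obj M).pOpcycles (p + 1)), p_fromOpcycles_assoc, p_opcyclesMap_assoc,
        p_fromOpcycles, Hom.comm]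
    have hx0 : x ≫ ((tw F).obj M).fromOpcycles (p + 1) (p + 1 + 1) = 0 := by
      have : Mono (((tw F).map g).f (p + 1 + 1)) := hg2
      rw [← cancel_mono (((tw F).map g).f (p + 1 + 1)), zero_comp]
      rw [Category.assoc, hnat, reassoc_of% hx, zero_comp]
    obtain ⟨y, hy⟩ : ∃ y, y ≫ ((tw F).obj M).homologyι (p + 1) = x :=
      ⟨(((tw F).obj M).homologyIsKernel (p + 1) (p + 1 + 1) (by simp)).lift (KernelFork.ofι x hx0),
        (((tw F).obj M).homologyIsKernel (p + 1) (p + 1 + 1) (by simp)).fac (KernelFork.ofι x hx0)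
          WalkingParallelPair.zero⟩
    have hy0 : y ≫ homologyMap ((tw F).map g) (p + 1) = 0 := by
      rw [← cancel_mono (((tw F).obj N).homologyι (p + 1)), Category.assoc, homologyι_naturality,
        reassoc_of% hy, hx, zero_comp]
    have hH' : Mono (homologyMap ((tw F).map g) (p + 1)) := hH
    rw [← hy, (cancel_mono (homologyMap ((tw F).map g) (p + 1))).1 (hy0.trans zero_comp.symm), zero_comp]
  · intro hQ
    rw [show PreservesFiniteLimits (Hp F (p + 1)) ↔ _ from
      ((Functor.preservesFiniteLimits_tfae (Hp F (p + 1))).out 0 3).symm]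
    intro S hS
    refine ⟨exact_Hp hF _ hS, ?_⟩
    have := hS.mono_f
    have hm : Mono (((ModSite.tensorBi O).map S.f).app (cokernel (F.d p (p + 1)))) := mono_tR_map hQ S.f
    have : Mono (opcyclesMap ((tw F).map S.f) (p + 1)) := by
      have e : opcyclesMap ((tw F).map S.f) (p + 1) = (opcyclesTwIso F p S.X₁).hom ≫
          ((ModSite.tensorBi O).map S.f).app (cokernel (F.d p (p + 1))) ≫ (opcyclesTwIso F p S.X₂).inv := by
        rw [← Category.assoc, ← opcyclesTwIso_natural, Category.assoc, Iso.hom_inv_id, Category.comp_id]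
      rw [e]
      infer_instance
    have : Mono (((tw F).obj S.X₁).homologyι (p + 1) ≫ opcyclesMap ((tw F).map S.f) (p + 1)) := mono_comp _ _
    exact @mono_of_mono_fac _ _ _ _ _ _ _ _ this (homologyι_naturality ((tw F).map S.f) (p + 1))

end Coker

lemma preservesFiniteColimits_iff {A B : Type*} [Category A] [Category B] {G G' : A ⥤ B} (e : G ≅ G') :
    PreservesFiniteColimits G ↔ PreservesFiniteColimits G' :=
  ⟨fun _ => preservesFiniteColimits_of_natIso e, fun _ => preservesFiniteColimits_of_natIso e.symm⟩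

lemma preservesFiniteLimits_iff {A B : Type*} [Category A] [Category B] {G G' : A ⥤ B} (e : G ≅ G') :
    PreservesFiniteLimits G ↔ PreservesFiniteLimits G' :=
  ⟨fun _ => preservesFiniteLimits_of_natIso e, fun _ => preservesFiniteLimits_of_natIso e.symm⟩

end Groth.Agent.SiteMod.LTensor
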