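import Groth.Agent.SiteMod.ExtZero
import Groth.Prelude.Def_ModSite2
import Mathlib.CategoryTheory.Sites.Point.Over

/-!
# Stalks of extensions by zero
-/

universe u

open CategoryTheory Limits Opposite
open scoped DirectSum

namespace Groth.Agent.SiteMod

open Groth.Agent.ModGroth

variable {C : Type u} [SmallCategory C] {J : GrothendieckTopology C} (O : Sheaf J CommRingCat.{u})
  (p : GrothendieckTopology.Point.{u} J)

/-- Sheafification does not change stalks. -/
noncomputable def stalkShIso (P : PM O) :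
    p.presheafFiber.obj P.presheaf ≅ ModSite.stalkAb p ((sh O).obj P) :=
  @asIso _ _ _ _ (p.presheafFiber.map (CategoryTheory.toSheafify J P.presheaf))
    (p.W_isInvertedBy_presheafFiber' _ (J.W_toSheafify P.presheaf))

variable {O} {U : C}

/-- The germ at a point over `p`. -/
noncomputable def ovGerm (P : PM (O.over U)) {V : C} (φ : V ⟶ U) (y : p.fiber.obj V)
    (x : p.fiber.obj U) (h : p.fiber.map φ y = x) :
    P.presheaf.obj (op (Over.mk φ)) ⟶
      ∐ fun x : p.fiber.obj U => (p.over x).presheafFiber.obj P.presheaf :=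
  (p.over x).toPresheafFiber (Over.mk φ) ⟨y, h⟩ P.presheaf ≫
    Sigma.ι (fun x : p.fiber.obj U => (p.over x).presheafFiber.obj P.presheaf) x

lemma ovGerm_congr (P : PM (O.over U)) {V : C} (φ : V ⟶ U) (y : p.fiber.obj V)
    (x x' : p.fiber.obj U) (h : p.fiber.map φ y = x) (h' : p.fiber.map φ y = x') :
    ovGerm p P φ y x h = ovGerm p P φ y x' h' := by
  obtain rfl : x = x' := h.symm.trans h'
  rfl

/-- One component of `fwd`. -/
noncomputable def fwdC (P : PM (O.over U)) (V : C) (y : p.fiber.obj V) :
    (⨁ φ : V ⟶ U, Cp P φ) →+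
      (∐ fun x : p.fiber.obj U => (p.over x).presheafFiber.obj P.presheaf : AddCommGrpCat.{u}) :=
  letI := Classical.decEq (V ⟶ U)
  DirectSum.toAddMonoid fun φ => (ovGerm p P φ y _ rfl).hom

lemma fwdC_cof (P : PM (O.over U)) {V : C} (y : p.fiber.obj V) (φ : V ⟶ U) (s : Cp P φ) :
    fwdC p P V y (cof P φ s) = (ovGerm p P φ y _ rfl).hom s := by
  classical
  exact DirectSum.toAddMonoid_of _ φ s

/-- The fibre of presheaf extension by zero to the coproduct. -/
noncomputable def fwd (P : PM (O.over U)) :
    p.presheafFiber.obj (extAb P) ⟶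
      ∐ fun x : p.fiber.obj U => (p.over x).presheafFiber.obj P.presheaf :=
  p.presheafFiberDesc
    (fun V y => (AddCommGrpCat.ofHom (fwdC p P V y) : (extAb P).obj (op V) ⟶ _))
    fun {V W} g y => by
      refine AddCommGrpCat.hom_ext (sum_hom_ext P fun φ s => ?_)
      change fwdC p P V y (extRes P g (cof P φ s)) = fwdC p P W (p.fiber.map g y) (cof P φ s)
      rw [extRes_cof, fwdC_cof, fwdC_cof]
      have hx : p.fiber.map φ (p.fiber.map g y) = p.fiber.map (g ≫ φ) y :=
        (ConcreteCategory.congr_hom (p.fiber.map_comp g φ) y).symm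
      refine Eq.trans ?_ (congrArg (fun t => t.hom s)
        (ovGerm_congr p P φ (p.fiber.map g y) _ _ hx rfl))
      exact congrArg (Sigma.ι (fun x : p.fiber.obj U => (p.over x).presheafFiber.obj P.presheaf)
          (p.fiber.map (g ≫ φ) y)).hom
        (ConcreteCategory.congr_hom ((p.over (p.fiber.map (g ≫ φ) y)).toPresheafFiber_w (lft g φ)
          ⟨y, rfl⟩ P.presheaf) s)

lemma fwd_cof (P : PM (O.over U)) {V : C} (y : p.fiber.obj V) (φ : V ⟶ U) (s : Cp P φ) :
    (fwd p P).hom ((p.toPresheafFiber V y (extAb P)).hom (cof P φ s)) =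
      (ovGerm p P φ y _ rfl).hom s := by
  refine Eq.trans ?_ (fwdC_cof p P y φ s)
  exact ConcreteCategory.congr_hom (p.toPresheafFiber_presheafFiberDesc (P := extAb P)
    (fun V y => (AddCommGrpCat.ofHom (fwdC p P V y) : (extAb P).obj (op V) ⟶ _)) _ V y) (cof P φ s)

/-- The inclusion of the summand at `x`. -/
noncomputable def bwd (P : PM (O.over U)) (x : p.fiber.obj U) :
    (p.over x).presheafFiber.obj P.presheaf ⟶ p.presheafFiber.obj (extAb P) :=
  (p.over x).presheafFiberDesc
    (fun W y => AddCommGrpCat.ofHom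
      ((p.toPresheafFiber W.left y.1 (extAb P)).hom.comp (cof P W.hom)))
    fun {W W'} g y => by
      refine AddCommGrpCat.hom_ext (AddMonoidHom.ext fun s => ?_)
      refine Eq.trans ?_ (ConcreteCategory.congr_hom (p.toPresheafFiber_w g.left y.1 (extAb P))
        (cof P W'.hom s))
      refine congrArg (p.toPresheafFiber W.left y.1 (extAb P)).hom ?_
      refine Eq.symm ((extRes_cof P g.left W'.hom s).trans ?_)
      exact cof_res_congr P (lft g.left W'.hom) (ψ' := W.hom) g rfl s

lemma bwd_germ (P : PM (O.over U)) (x : p.fiber.obj U) (W : Over U) (y : (p.over x).fiber.obj W)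
    (s : P.presheaf.obj (op W)) :
    (bwd p P x).hom (((p.over x).toPresheafFiber W y P.presheaf).hom s) =
      (p.toPresheafFiber W.left y.1 (extAb P)).hom (cof P W.hom s) :=
  ConcreteCategory.congr_hom ((p.over x).toPresheafFiber_presheafFiberDesc _ _ W y) s

/-- The fibre of a presheaf extension by zero. -/
noncomputable def fiberExtIso (P : PM (O.over U)) :
    p.presheafFiber.obj (extAb P) ≅
      ∐ fun x : p.fiber.obj U => (p.over x).presheafFiber.obj P.presheaf where
  hom := fwd p P
  inv := Sigma.desc (bwd p P)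
  hom_inv_id := by
    refine p.presheafFiber_hom_ext fun V y => ?_
    refine AddCommGrpCat.hom_ext (sum_hom_ext P fun φ s => ?_)
    refine (congrArg (Sigma.desc (bwd p P)).hom (fwd_cof p P y φ s)).trans ?_
    refine (ConcreteCategory.congr_hom (Sigma.ι_desc (bwd p P) (p.fiber.map φ y)) _).trans ?_
    exact bwd_germ p P _ (Over.mk φ) ⟨y, rfl⟩ s
  inv_hom_id := by
    refine Sigma.hom_ext _ _ fun x => ?_
    rw [Sigma.ι_desc_assoc, Category.comp_id]
    refine (p.over x).presheafFiber_hom_ext fun W y => ?_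
    refine AddCommGrpCat.hom_ext (AddMonoidHom.ext fun s => ?_)
    refine (congrArg (fwd p P).hom (bwd_germ p P x W y s)).trans ?_
    refine (fwd_cof p P y.1 W.hom s).trans ?_
    exact congrArg (fun t => t.hom s) (ovGerm_congr p P W.hom y.1 _ x rfl y.2)

/-- The stalk of `j_! G`. -/
noncomputable def stalkExtIso (G : ModSite.Mod (O.over U)) :
    ModSite.stalkAb p ((ModSite.extZero O U).obj G) ≅
      ∐ fun x : p.fiber.obj U => ModSite.stalkAb (p.over x) G :=
  p.sheafFiber.mapIso ((SheafOfModules.toSheaf (ModSite.ringSh O)).mapIso ((extIso O U).app G)) ≪≫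
    (stalkShIso O p ((extP O U).obj ((fg (O.over U)).obj G))).symm ≪≫
    fiberExtIso p ((fg (O.over U)).obj G)

end Groth.Agent.SiteMod
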