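import Groth.Agent.SiteMod.FreeCover
import Mathlib.CategoryTheory.Abelian.GrothendieckAxioms.Connected
import Mathlib.CategoryTheory.Limits.Constructions.Filtered

/-!
# Every module is a filtered colimit of finitely presented ones
-/

universe u

open CategoryTheory CategoryTheory.Limits Opposite
open CategoryTheory.Limits.CoproductsFromFiniteFiltered

namespace Groth.Agent.SiteMod.FreeColim

open Groth.Agent.ModGroth FreeCover

variable {C : Type u} [SmallCategory C] {J : GrothendieckTopology C} (O : Sheaf J CommRingCat.{u})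
  (B : Set C) (F : ModSite.Mod O)

/-- All generators. -/
abbrev Gn : Type u := Σ X : B, (ModSite.freeOn O (X : C) ⟶ F)

/-- Their modules. -/
noncomputable abbrev gf (g : Gn O B F) : ModSite.Mod O := ModSite.freeOn O (g.1 : C)

/-- The tautological map. -/
noncomputable def pi : (∐ gf O B F) ⟶ F := Sigma.desc fun g => g.2

/-- Finite sums of generators. -/
noncomputable abbrev fin (S : Finset (Discrete (Gn O B F))) : ModSite.Mod O :=
  ∐ fun x : S => gf O B F x.1.as

/-- Their inclusions. -/
noncomputable def incl (S : Finset (Discrete (Gn O B F))) : fin O B F S ⟶ ∐ gf O B F :=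
  Sigma.desc fun x => Sigma.ι (gf O B F) x.1.as

/-- All relations. -/
abbrev Rl : Type u :=
  Σ V : B, Σ S : Finset (Discrete (Gn O B F)),
    {x : ModSite.freeOn O (V : C) ⟶ fin O B F S // x ≫ incl O B F S ≫ pi O B F = 0}

/-- Transition map. -/
noncomputable def tr {S T : Finset (Discrete (Gn O B F))} (h : S ≤ T) : fin O B F S ⟶ fin O B F T :=
  Sigma.desc fun x => Sigma.ι (fun x : T => gf O B F x.1.as) ⟨x.1, h x.2⟩

lemma tr_incl {S T : Finset (Discrete (Gn O B F))} (h : S ≤ T) :
    tr O B F h ≫ incl O B F T = incl O B F S :=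
  Sigma.hom_ext _ _ fun x => by simp [tr, incl]

lemma tr_tr {S T W : Finset (Discrete (Gn O B F))} (h : S ≤ T) (h' : T ≤ W) :
    tr O B F h ≫ tr O B F h' = tr O B F (h.trans h') :=
  Sigma.hom_ext _ _ fun x => by simp [tr]

lemma tr_refl (S : Finset (Discrete (Gn O B F))) : tr O B F (le_refl S) = 𝟙 _ :=
  Sigma.hom_ext _ _ fun x => by simp [tr]

/-- Finitely many generators and relations. -/
@[ext]
structure Stage : Type u where
  /-- generators -/
  S : Finset (Discrete (Gn O B F))
  /-- relations -/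
  R : Finset (Rl O B F)
  h : ∀ r ∈ R, r.2.1 ≤ S

instance : PartialOrder (Stage O B F) :=
  PartialOrder.lift (fun l => (l.S, l.R)) fun l l' e => by
    apply Stage.ext <;> simp_all

instance : IsDirectedOrder (Stage O B F) :=
  ⟨fun l l' => by
    classical
    refine ⟨⟨l.S ∪ l'.S, l.R ∪ l'.R, fun r hr => ?_⟩,
      ⟨Finset.subset_union_left, Finset.subset_union_left⟩,
      ⟨Finset.subset_union_right, Finset.subset_union_right⟩⟩
    rcases Finset.mem_union.1 hr with hr | hr
    · exact (l.h r hr).trans Finset.subset_union_left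
    · exact (l'.h r hr).trans Finset.subset_union_right⟩

instance : Nonempty (Stage O B F) := ⟨⟨∅, ∅, by simp⟩⟩

/-- The relations of a stage. -/
noncomputable def relOf (l : Stage O B F) (r : l.R) :
    ModSite.freeOn O (r.1.1 : C) ⟶ fin O B F l.S :=
  r.1.2.2.1 ≫ tr O B F (l.h r.1 r.2)

/-- All relations of a stage. -/
noncomputable def psi (l : Stage O B F) :
    (∐ fun r : l.R => ModSite.freeOn O (r.1.1 : C)) ⟶ fin O B F l.S :=
  Sigma.desc (relOf O B F l)

@[reassoc]
lemma ι_psi (l : Stage O B F) (r : l.R) :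
    Sigma.ι (fun r : l.R => ModSite.freeOn O (r.1.1 : C)) r ≫ psi O B F l = relOf O B F l r :=
  Sigma.ι_desc _ _

@[reassoc]
lemma relOf_π (l : Stage O B F) (r : l.R) : relOf O B F l r ≫ cokernel.π (psi O B F l) = 0 := by
  rw [← ι_psi_assoc, cokernel.condition, comp_zero]

lemma psi_tr {l l' : Stage O B F} (h : l ≤ l') :
    psi O B F l ≫ tr O B F h.1 ≫ cokernel.π (psi O B F l') = 0 :=
  Sigma.hom_ext _ _ fun r => by
    have e : relOf O B F l r ≫ tr O B F h.1 =
        Sigma.ι (fun r : l'.R => ModSite.freeOn O (r.1.1 : C)) ⟨r.1, h.2 r.2⟩ ≫ psi O B F l' := by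
      rw [ι_psi]
      simp [relOf, tr_tr]
    rw [ι_psi_assoc, reassoc_of% e, cokernel.condition, comp_zero, comp_zero]

/-- The diagram. -/
noncomputable def diag : Stage O B F ⥤ ModSite.Mod O where
  obj l := cokernel (psi O B F l)
  map {l l'} h := cokernel.desc _ (tr O B F (leOfHom h).1 ≫ cokernel.π _) (psi_tr O B F (leOfHom h))
  map_id l := by
    apply coequalizer.hom_ext
    simp [tr_refl]
  map_comp {a b c} h h' := by
    apply coequalizer.hom_ext
    simp [← tr_tr O B F (leOfHom h).1 (leOfHom h').1]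

lemma psi_pi (l : Stage O B F) : psi O B F l ≫ incl O B F l.S ≫ pi O B F = 0 :=
  Sigma.hom_ext _ _ fun r => by
    simp only [psi, relOf, Sigma.ι_desc_assoc, Category.assoc, comp_zero]
    rw [reassoc_of% (tr_incl O B F (l.h r.1 r.2))]
    exact r.1.2.2.2

/-- The cocone. -/
noncomputable def diagι : diag O B F ⟶ (Functor.const (Stage O B F)).obj F where
  app l := cokernel.desc _ (incl O B F l.S ≫ pi O B F) (psi_pi O B F l)
  naturality {l l'} h := by
    apply coequalizer.hom_ext
    simp [diag, reassoc_of% (tr_incl O B F (leOfHom h).1)]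

lemma epi_pi (hB : ∀ X : C, ∃ (κ : Type u) (Y : κ → C) (g : ∀ k, Y k ⟶ X),
    Sieve.ofArrows Y g ∈ J X ∧ ∀ k, Y k ∈ B) : Epi (pi O B F) := by
  refine ⟨fun {N} a b h => FreeOn.isSeparating O B hB a b fun X hX x => ?_⟩
  obtain ⟨i⟩ := hX
  have := congrArg (Sigma.ι (gf O B F) ⟨i, x⟩ ≫ ·) h
  simpa [pi] using this

variable {O B F} in
/-- One generator, no relation. -/
def one (g : Gn O B F) : Stage O B F where
  S := {⟨g⟩}
  R := ∅
  h _ h := absurd h (Finset.notMem_empty _)

variable {O B F} in
/-- A leg of a cocone. -/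
noncomputable def leg (s : Cocone (diag O B F)) (l : Stage O B F) : fin O B F l.S ⟶ s.pt :=
  cokernel.π (psi O B F l) ≫ (s.ι.app l : cokernel (psi O B F l) ⟶ s.pt)

variable {O B F} in
/-- The generator in its stage. -/
noncomputable def oneι (g : Gn O B F) : gf O B F g ⟶ fin O B F (one g).S :=
  Sigma.ι (fun x : (one g).S => gf O B F x.1.as) ⟨⟨g⟩, Finset.mem_singleton_self _⟩

variable {O B F} in
lemma oneι_tr {S : Finset (Discrete (Gn O B F))} (x : S) (h : (one x.1.as).S ≤ S) :
    oneι x.1.as ≫ tr O B F h = Sigma.ι (fun x : S => gf O B F x.1.as) x :=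
  Sigma.ι_desc _ _

variable {O B F} in
lemma oneι_incl (g : Gn O B F) : oneι g ≫ incl O B F (one g).S = Sigma.ι (gf O B F) g :=
  Sigma.ι_desc _ _

variable {O B F} in
/-- The map out of all generators given by a cocone. -/
noncomputable def tmap (s : Cocone (diag O B F)) : (∐ gf O B F) ⟶ s.pt :=
  Sigma.desc fun g => oneι g ≫ leg s (one g)

variable {O B F} in
@[reassoc]
lemma π_map {l l' : Stage O B F} (h : l ≤ l') :
    cokernel.π (psi O B F l) ≫ (diag O B F).map (homOfLE h) =
      tr O B F h.1 ≫ cokernel.π (psi O B F l') :=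
  cokernel.π_desc _ _ _

variable {O B F} in
lemma incl_tmap (s : Cocone (diag O B F)) (l : Stage O B F) :
    incl O B F l.S ≫ tmap s = leg s l :=
  Sigma.hom_ext _ _ fun x => by
    have hle : one x.1.as ≤ l :=
      ⟨Finset.singleton_subset_iff.2 x.2, Finset.empty_subset _⟩
    simp only [incl, tmap, Sigma.ι_desc_assoc, Sigma.ι_desc, leg]
    rw [← s.w (homOfLE hle)]
    refine (congrArg (oneι x.1.as ≫ ·) ((reassoc_of% (π_map hle)) (s.ι.app l))).trans ?_
    refine (congrArg (oneι x.1.as ≫ ·) (Category.assoc _ _ _)).trans ?_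
    exact (Category.assoc _ _ _).symm.trans (congrArg (· ≫ _) (oneι_tr x hle.1))

variable {O B F} in
lemma kernel_tmap (hB : GoodBase J B) (s : Cocone (diag O B F)) :
    kernel.ι (pi O B F) ≫ tmap s = 0 := by
  classical
  have : AB5.{u} (ModSite.Mod O) := sheaf_ab5 (ModSite.ringSh O)
  refine (isColimitFiniteSubproductsCocone (gf O B F)).pullback_zero_ext fun S => ?_
  change pullback.snd (incl O B F S) _ ≫ kernel.ι (pi O B F) ≫ tmap s = 0
  rw [← pullback.condition_assoc]
  refine FreeOn.isSeparating O B hB.cover _ _ fun X hX x => ?_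
  obtain ⟨i⟩ := hX
  let r : Rl O B F := ⟨i, S, x ≫ pullback.fst (incl O B F S) (kernel.ι (pi O B F)), by
    rw [Category.assoc, pullback.condition_assoc, kernel.condition, comp_zero, comp_zero]⟩
  let l : Stage O B F := ⟨S, {r}, fun r' h' => (Finset.mem_singleton.1 h') ▸ le_refl _⟩
  have hr : (x ≫ pullback.fst (incl O B F S) (kernel.ι (pi O B F))) ≫ cokernel.π (psi O B F l) = 0 := by
    have := relOf_π O B F l ⟨r, Finset.mem_singleton_self _⟩
    simp only [relOf, tr_refl, Category.comp_id, l, r] at this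
    exact this
  rw [comp_zero, incl_tmap s l, leg, ← Category.assoc, ← Category.assoc, hr, zero_comp]

/-- It is a colimit. -/
theorem nonempty_isColimit (hB : GoodBase J B) :
    Nonempty (IsColimit (Cocone.mk F (diagι O B F))) := by
  have := epi_pi O B F hB.cover
  have hfac : ∀ s, pi O B F ≫ Abelian.epiDesc (pi O B F) (tmap s) (kernel_tmap hB s) = tmap s :=
    fun s => Abelian.comp_epiDesc _ _ _
  refine ⟨{ desc := fun s => Abelian.epiDesc (pi O B F) (tmap s) (kernel_tmap hB s)
            fac := fun s l => ?_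
            uniq := fun s m hm => ?_ }⟩
  · apply coequalizer.hom_ext
    change cokernel.π (psi O B F l) ≫ cokernel.desc _ _ _ ≫ _ = _
    rw [cokernel.π_desc_assoc, Category.assoc, hfac]
    exact incl_tmap s l
  · rw [← cancel_epi (pi O B F), hfac]
    refine Sigma.hom_ext _ _ fun g => ?_
    simp only [tmap, Sigma.ι_desc_assoc, Sigma.ι_desc, leg]
    rw [← hm (one g)]
    refine Eq.symm ((congrArg (oneι g ≫ ·) ((reassoc_of% (cokernel.π_desc (psi O B F (one g))
      (incl O B F (one g).S ≫ pi O B F) (psi_pi O B F (one g)))) m)).trans ?_)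
    refine (congrArg (oneι g ≫ ·) (Category.assoc _ _ _)).trans ?_
    exact (Category.assoc _ _ _).symm.trans (congrArg (· ≫ _) (oneι_incl g))

lemma isFP_diag (l : Stage O B F) : IsFP O B ((diag O B F).obj l) := by
  have : Epi (cokernel.π (psi O B F l)) := coequalizer.π_epi
  exact isFP_of (ι := l.S) (κ := l.R) (fun x => x.1.as.1) (fun r => r.1.1) (fun x => x.1.as.1.2)
    (fun r => r.1.1.2) (F := cokernel (psi O B F l)) (cokernel.π (psi O B F l)) (relOf O B F l)
    (relOf_π O B F l)
    fun t ht => ⟨cokernel.desc _ t (Sigma.hom_ext _ _ fun r => by rw [ι_psi_assoc, ht r, comp_zero]),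
      cokernel.π_desc _ _ _⟩

end Groth.Agent.SiteMod.FreeColim
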