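import Groth.Agent.ModGroth.FreeOn
import Groth.Agent.ModGroth.Basic
import Groth.Prelude.Def_CohCx
import Mathlib.CategoryTheory.Abelian.Basic

/-!
# Modules `Coker(⊕ j_! O → ⊕ j_! O)` with quasi-compact objects
-/

universe u

open CategoryTheory CategoryTheory.Limits Opposite

namespace Groth.Agent.SiteMod.FreeCover

open Groth.Agent.ModGroth

variable {C : Type u} [SmallCategory C] {J : GrothendieckTopology C} {O : Sheaf J CommRingCat.{u}}

variable (O) in
/-- `j_{Y!} O ⟶ j_{U!} O`. -/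
noncomputable def fm {Y U : C} (g : Y ⟶ U) : ModSite.freeOn O Y ⟶ ModSite.freeOn O U :=
  (FreeOn.homEquiv O Y _).symm ((ModSite.freeOn O U).val.map g.op (FreeOn.homEquiv O U _ (𝟙 _)))

lemma homEquiv_fm_comp {Y U : C} (g : Y ⟶ U) {M : ModSite.Mod O} (a : ModSite.freeOn O U ⟶ M) :
    FreeOn.homEquiv O Y M (fm O g ≫ a) = M.val.map g.op (FreeOn.homEquiv O U M a) := by
  rw [FreeOn.homEquiv_comp, fm, Equiv.apply_symm_apply]
  refine (PresheafOfModules.naturality_apply a.val g.op _).trans ?_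
  refine congrArg (fun z => M.val.map g.op z) ?_
  rw [← FreeOn.homEquiv_comp, Category.id_comp]

lemma fm_comp_fm {Z Y U : C} (h : Z ⟶ Y) (g : Y ⟶ U) {M : ModSite.Mod O}
    (a : ModSite.freeOn O U ⟶ M) : fm O h ≫ fm O g ≫ a = fm O (h ≫ g) ≫ a := by
  apply (FreeOn.homEquiv O Z M).injective
  rw [homEquiv_fm_comp, homEquiv_fm_comp, homEquiv_fm_comp]
  exact (PresheafOfModules.map_comp_apply M.val g.op h.op _).symm

lemma isSheafFor_cover {U : C} {ι : Type*} {Y : ι → C} {g : ∀ i, Y i ⟶ U}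
    (hg : Sieve.ofArrows Y g ∈ J U) (M : ModSite.Mod O) :
    (Presieve.ofArrows Y g).IsSheafFor (M.val.presheaf ⋙ forget AddCommGrpCat.{u}) :=
  (Presieve.isSheafFor_iff_generate _).2
    (((isSheaf_iff_isSheaf_of_type _ _).1
      (Presheaf.isSheaf_comp_of_isSheaf J M.val.presheaf (forget AddCommGrpCat.{u}) M.isSheaf)) _ hg)

lemma hom_ext_cover {U : C} {ι : Type*} {Y : ι → C} {g : ∀ i, Y i ⟶ U}
    (hg : Sieve.ofArrows Y g ∈ J U) {M : ModSite.Mod O} {a b : ModSite.freeOn O U ⟶ M}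
    (h : ∀ i, fm O (g i) ≫ a = fm O (g i) ≫ b) : a = b := by
  apply (FreeOn.homEquiv O U M).injective
  refine (isSheafFor_cover hg M).isSeparatedFor.ext fun Z k hk => ?_
  obtain ⟨i⟩ := hk
  have := congrArg (FreeOn.homEquiv O _ M) (h i)
  rwa [homEquiv_fm_comp, homEquiv_fm_comp] at this

lemma exists_glue {U : C} {ι : Type u} {Y : ι → C} {g : ∀ i, Y i ⟶ U}
    (hg : Sieve.ofArrows Y g ∈ J U) {M : ModSite.Mod O} (b : ∀ i, ModSite.freeOn O (Y i) ⟶ M)
    (hb : ∀ (i j : ι) (Z : C) (p : Z ⟶ Y i) (q : Z ⟶ Y j), p ≫ g i = q ≫ g j →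
      fm O p ≫ b i = fm O q ≫ b j) :
    ∃ a : ModSite.freeOn O U ⟶ M, ∀ i, fm O (g i) ≫ a = b i := by
  obtain ⟨t, ht, -⟩ := (Presieve.isSheafFor_arrows_iff _ _).1 (isSheafFor_cover hg M)
    (fun i => FreeOn.homEquiv O (Y i) M (b i)) (fun i j Z p q hpq => by
      have := congrArg (FreeOn.homEquiv O Z M) (hb i j Z p q hpq)
      rw [homEquiv_fm_comp, homEquiv_fm_comp] at this
      exact this)
  refine ⟨(FreeOn.homEquiv O U M).symm t, fun i => (FreeOn.homEquiv O (Y i) M).injective ?_⟩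
  rw [homEquiv_fm_comp, Equiv.apply_symm_apply]
  exact ht i

/-- The hypotheses on the set `B`. -/
structure GoodBase (J : GrothendieckTopology C) (B : Set C) : Prop where
  cover : ∀ X : C, ∃ (κ : Type u) (Y : κ → C) (g : ∀ k, Y k ⟶ X), Sieve.ofArrows Y g ∈ J X ∧ ∀ k, Y k ∈ B
  qc : ∀ U ∈ B, CohCx.IsQcObject ((presheafToSheaf J (Type u)).obj (yoneda.obj U))

variable (J) in
/-- The sheaf of sets of an object. -/
noncomputable abbrev shY (U : C) : Sheaf J (Type u) := (presheafToSheaf J (Type u)).obj (yoneda.obj U)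

lemma shY_map_app {Y U : C} (g : Y ⟶ U) {W : C} (p : W ⟶ Y) :
    ((presheafToSheaf J (Type u)).map (yoneda.map g)).hom.app (op W)
        ((CategoryTheory.toSheafify J (yoneda.obj Y)).app (op W) p) =
      (CategoryTheory.toSheafify J (yoneda.obj U)).app (op W) (p ≫ g) :=
  (ConcreteCategory.congr_hom
    (congrArg (fun α => NatTrans.app α (op W)) (CategoryTheory.toSheafify_naturality J (yoneda.map g))) p).symm

lemma shY_res {U V W : C} (h : W ⟶ V) (p : V ⟶ U) :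
    (shY J U).obj.map h.op ((CategoryTheory.toSheafify J (yoneda.obj U)).app (op V) p) =
      (CategoryTheory.toSheafify J (yoneda.obj U)).app (op W) (h ≫ p) :=
  (NatTrans.naturality_apply (CategoryTheory.toSheafify J (yoneda.obj U)) h.op p).symm

/-- A quasi-compact object has finite covers by members of `B` inside any covering sieve. -/
theorem exists_finite_cover {B : Set C} (hB : ∀ X : C, ∃ (κ : Type u) (Y : κ → C) (g : ∀ k, Y k ⟶ X),
      Sieve.ofArrows Y g ∈ J X ∧ ∀ k, Y k ∈ B) {U : C}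
    (hU : CohCx.IsQcObject (shY J U)) (R : Sieve U) (hR : R ∈ J U) :
    ∃ (ι : Type u) (_ : Finite ι) (Y : ι → C) (g : ∀ i, Y i ⟶ U),
      (∀ i, R (g i)) ∧ (∀ i, Y i ∈ B) ∧ Sieve.ofArrows Y g ∈ J U := by
  classical
  let I : Type u := {p : Σ Y : C, (Y ⟶ U) // p.1 ∈ B ∧ R p.2}
  let sec := fun (X : C) => (CategoryTheory.toSheafify J (yoneda.obj X))
  have hjs : CohCx.JointlySurjective (I := I)
      (fun p => (presheafToSheaf J (Type u)).map (yoneda.map p.1.2)) := by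
    intro V s
    refine ⟨_, J.bind_covering (Presheaf.imageSieve_mem J (sec U) (U := op V) s)
      (R := fun {W} h hh => ?_) (fun {W} h hh => ?_), ?_⟩
    · exact Sieve.bind (R.pullback (Presheaf.localPreimage (sec U) (U := op V) s h hh)).arrows
        fun {W'} k _ => Sieve.ofArrows (hB W').choose_spec.choose (hB W').choose_spec.choose_spec.choose
    · exact J.bind_covering (J.pullback_stable _ hR) fun {W'} k _ =>
        (hB W').choose_spec.choose_spec.choose_spec.1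
    · rintro W h ⟨W', k, h', hh', ⟨W'', m, l, hl, ⟨Z, q, r, ⟨j⟩, rfl⟩, rfl⟩, rfl⟩
      let p : W' ⟶ U := Presheaf.localPreimage (sec U) (U := op V) s h' hh'
      let a := (hB W'').choose_spec.choose_spec.choose j
      let i : I := ⟨⟨_, a ≫ l ≫ p⟩, (hB W'').choose_spec.choose_spec.choose_spec.2 j,
        R.downward_closed hl a⟩
      refine ⟨i, (sec _).app (op W) q, ?_⟩
      refine (shY_map_app i.1.2 q).trans ?_
      have hp := Presheaf.app_localPreimage (sec U) (U := op V) s h' hh'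
      rw [op_comp, Functor.map_comp_apply, ← hp]
      refine Eq.symm ((shY_res _ p).trans ?_)
      simp only [i, a, Category.assoc]
  obtain ⟨t, ht⟩ := hU I _ _ hjs
  refine ⟨t, inferInstance, fun i => i.1.1.1, fun i => i.1.1.2, fun i => i.1.2.2, fun i => i.1.2.1, ?_⟩
  obtain ⟨S, hS, hS'⟩ := ht U ((sec U).app (op U) (𝟙 U))
  refine J.transitive hS _ fun V v hv => ?_
  obtain ⟨i, x, hx⟩ := hS' V v hv
  refine J.transitive (Presheaf.imageSieve_mem J (sec i.1.1.1) (U := op V) x) _ fun W k hk => ?_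
  let p : W ⟶ i.1.1.1 := Presheaf.localPreimage (sec i.1.1.1) (U := op V) x k hk
  have hp := Presheaf.app_localPreimage (sec i.1.1.1) (U := op V) x k hk
  have he : (sec U).app (op W) (p ≫ i.1.1.2) = (sec U).app (op W) (k ≫ v) := by
    refine (shY_map_app i.1.1.2 p).symm.trans ?_
    refine (congrArg (((presheafToSheaf J (Type u)).map (yoneda.map i.1.1.2)).hom.app (op W)) hp).trans ?_
    refine (NatTrans.naturality_apply
      ((presheafToSheaf J (Type u)).map (yoneda.map i.1.1.2)).hom k.op x).trans ?_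
    refine (congrArg ((shY J U).obj.map k.op) hx).trans ?_
    rw [shY_res, shY_res, Category.comp_id]
  let x₁ : ToType ((yoneda.obj U).obj (op W)) := p ≫ i.1.1.2
  let y₁ : ToType ((yoneda.obj U).obj (op W)) := k ≫ v
  refine J.superset_covering (fun Z q hq => ?_)
    (Presheaf.equalizerSieve_mem J (sec U) x₁ y₁ he)
  have hq' : q ≫ p ≫ i.1.1.2 = q ≫ k ≫ v := hq
  change Sieve.ofArrows (fun j : t => j.1.1.1) (fun j => j.1.1.2) ((q ≫ k) ≫ v)
  rw [Category.assoc, ← hq', ← Category.assoc]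
  exact Sieve.downward_closed _ (Sieve.ofArrows_mk (I := t) (fun j => j.1.1.1) (fun j => j.1.1.2) i) _

lemma epi_sections {G F : ModSite.Mod O} (p : G ⟶ F) [Epi p] {U : C} (s : F.val.obj (op U)) :
    Presheaf.imageSieve (U := U) ((SheafOfModules.toSheaf.{u} (ModSite.ringSh O)).map p).hom s ∈ J U := by
  have hp : Epi ((SheafOfModules.toSheaf.{u} (ModSite.ringSh O)).map p) := by
    have := toSheaf_preservesColimits (R := ModSite.ringSh O)
    infer_instance
  rw [← Sheaf.isLocallySurjective_iff_epi'] at hp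
  exact Presheaf.imageSieve_mem J ((SheafOfModules.toSheaf.{u} (ModSite.ringSh O)).map p).hom
    (U := op U) s

variable {B : Set C}

/-- Maps out of a generator lift locally along epimorphisms, on finitely many members of `B`. -/
theorem exists_lift (hB : GoodBase J B) {U : C} (hU : CohCx.IsQcObject (shY J U)) {G F : ModSite.Mod O}
    (p : G ⟶ F) [Epi p] (a : ModSite.freeOn O U ⟶ F) :
    ∃ (ι : Type u) (_ : Finite ι) (Y : ι → C) (g : ∀ i, Y i ⟶ U) (l : ∀ i, ModSite.freeOn O (Y i) ⟶ G),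
      (∀ i, Y i ∈ B) ∧ Sieve.ofArrows Y g ∈ J U ∧ ∀ i, l i ≫ p = fm O (g i) ≫ a := by
  obtain ⟨ι, hι, Y, g, hg, hY, hc⟩ := exists_finite_cover hB.cover hU _
    (epi_sections p (FreeOn.homEquiv O U F a))
  choose x hx using hg
  refine ⟨ι, hι, Y, g, fun i => (FreeOn.homEquiv O (Y i) G).symm (x i), hY, hc,
    fun i => (FreeOn.homEquiv O (Y i) F).injective ?_⟩
  rw [FreeOn.homEquiv_comp, Equiv.apply_symm_apply, homEquiv_fm_comp]
  exact hx i

variable (O) in
/-- A presentation by generators and relations in `B`. -/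
structure Pres (B : Set C) (F : ModSite.Mod O) where
  /-- generators -/
  I : Type u
  /-- relations -/
  R : Type u
  finI : Finite I
  finR : Finite R
  /-- objects of generators -/
  U : I → C
  /-- objects of relations -/
  V : R → C
  memU : ∀ i, U i ∈ B
  memV : ∀ j, V j ∈ B
  /-- the generators -/
  π : (∐ fun i => ModSite.freeOn O (U i)) ⟶ F
  /-- the relations -/
  rel : ∀ j, ModSite.freeOn O (V j) ⟶ ∐ fun i => ModSite.freeOn O (U i)
  epi : Epi π
  rel_π : ∀ j, rel j ≫ π = 0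
  desc : ∀ {N : ModSite.Mod O} (t : (∐ fun i => ModSite.freeOn O (U i)) ⟶ N),
    (∀ j, rel j ≫ t = 0) → ∃ t' : F ⟶ N, π ≫ t' = t

variable (O) in
/-- The predicate of the statements. -/
def IsFP (B : Set C) (F : ModSite.Mod O) : Prop :=
  ∃ (m' n' : ℕ) (V' : Fin m' → C) (U' : Fin n' → C)
    (ψ : (∐ fun j => ModSite.freeOn O (V' j)) ⟶ ∐ fun i => ModSite.freeOn O (U' i)),
    (∀ j, V' j ∈ B) ∧ (∀ i, U' i ∈ B) ∧ Nonempty (F ≅ cokernel ψ)

lemma exists_pres {F : ModSite.Mod O} (hF : IsFP O B F) : Nonempty (Pres O B F) := by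
  obtain ⟨m, n, V, U, ψ, hV, hU, ⟨e⟩⟩ := hF
  let c : (∐ fun i : ULift.{u} (Fin n) => ModSite.freeOn O (U i.down)) ≅
      ∐ fun i => ModSite.freeOn O (U i) :=
    Sigma.reindex Equiv.ulift (fun i : Fin n => ModSite.freeOn O (U i))
  refine ⟨{
    I := ULift.{u} (Fin n), R := ULift.{u} (Fin m), finI := inferInstance, finR := inferInstance
    U := fun i => U i.down, V := fun j => V j.down, memU := fun i => hU _, memV := fun j => hV _
    π := c.hom ≫ cokernel.π ψ ≫ e.inv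
    rel := fun j => Sigma.ι (fun j => ModSite.freeOn O (V j)) j.down ≫ ψ ≫ c.inv
    epi := inferInstance
    rel_π := fun j => by simp
    desc := fun {N} t ht => by
      have h : ψ ≫ c.inv ≫ t = 0 := Sigma.hom_ext _ _ fun j => by simpa using ht ⟨j⟩
      exact ⟨e.hom ≫ cokernel.desc ψ (c.inv ≫ t) h, by simp⟩ }⟩

/-- Build the predicate from generators and relations indexed by finite types. -/
theorem isFP_of {F : ModSite.Mod O} {ι κ : Type u} [Finite ι] [Finite κ] (U : ι → C) (V : κ → C)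
    (hU : ∀ i, U i ∈ B) (hV : ∀ j, V j ∈ B) (π : (∐ fun i => ModSite.freeOn O (U i)) ⟶ F) [Epi π]
    (rel : ∀ j, ModSite.freeOn O (V j) ⟶ ∐ fun i => ModSite.freeOn O (U i))
    (hrel : ∀ j, rel j ≫ π = 0)
    (hdesc : ∀ {N : ModSite.Mod O} (t : (∐ fun i => ModSite.freeOn O (U i)) ⟶ N),
      (∀ j, rel j ≫ t = 0) → ∃ t' : F ⟶ N, π ≫ t' = t) :
    IsFP O B F := by
  obtain ⟨n, ⟨en⟩⟩ := Finite.exists_equiv_fin ι
  obtain ⟨m, ⟨em⟩⟩ := Finite.exists_equiv_fin κ
  let c : (∐ fun i : Fin n => ModSite.freeOn O (U (en.symm i))) ≅ ∐ fun i => ModSite.freeOn O (U i) :=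
    Sigma.reindex en.symm (fun i => ModSite.freeOn O (U i))
  let ψ := Sigma.desc fun j : Fin m => rel (em.symm j) ≫ c.inv
  have h1 : ψ ≫ c.hom ≫ π = 0 := Sigma.hom_ext _ _ fun j => by simp [ψ, hrel]
  have h2 : ∀ j, rel j ≫ c.inv ≫ cokernel.π ψ = 0 := fun j => by
    obtain ⟨j, rfl⟩ := em.symm.surjective j
    have e : rel (em.symm j) ≫ c.inv =
        Sigma.ι (fun j : Fin m => ModSite.freeOn O (V (em.symm j))) j ≫ ψ := by simp [ψ]
    rw [reassoc_of% e, cokernel.condition, comp_zero]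
  obtain ⟨q, hq⟩ := hdesc (c.inv ≫ cokernel.π ψ) h2
  refine ⟨m, n, fun j => V (em.symm j), fun i => U (en.symm i), ψ, fun j => hV _, fun i => hU _,
    ⟨{ hom := q, inv := cokernel.desc ψ (c.hom ≫ π) h1
       hom_inv_id := ?_, inv_hom_id := ?_ }⟩⟩
  · rw [← cancel_epi π, reassoc_of% hq]
    simp
  · rw [← cancel_epi (cokernel.π ψ)]
    simp [hq]

/-- Cokernels. -/
theorem isFP_cokernel (hB : GoodBase J B) {F G : ModSite.Mod O} (α : F ⟶ G) (hF : IsFP O B F)
    (hG : IsFP O B G) : IsFP O B (cokernel α) := by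
  classical
  obtain ⟨PF⟩ := exists_pres hF
  obtain ⟨PG⟩ := exists_pres hG
  have := PF.finI; have := PG.finI; have := PG.finR
  have := PF.epi; have := PG.epi
  choose ι hι Y g l hY hc hl using fun i => exists_lift hB (hB.qc _ (PF.memU i)) PG.π
    (Sigma.ι (fun i => ModSite.freeOn O (PF.U i)) i ≫ PF.π ≫ α)
  refine isFP_of (ι := PG.I) (κ := PG.R ⊕ Σ i, ι i) PG.U (Sum.elim PG.V fun p => Y p.1 p.2) PG.memU
    (fun j => Sum.casesOn j PG.memV fun p => hY p.1 p.2) (PG.π ≫ cokernel.π α)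
    (fun j => match j with | .inl j => PG.rel j | .inr p => l p.1 p.2) (fun j => ?_) fun {N} t ht => ?_
  · rcases j with j | ⟨i, k⟩
    · exact (reassoc_of% (PG.rel_π j)) _ |>.trans zero_comp
    · change l i k ≫ PG.π ≫ cokernel.π α = 0
      rw [reassoc_of% (hl i k), cokernel.condition, comp_zero, comp_zero, comp_zero]
  · obtain ⟨t', ht'⟩ := PG.desc t fun j => ht (.inl j)
    suffices h : α ≫ t' = 0 from ⟨cokernel.desc α t' h, by simp [ht']⟩
    rw [← cancel_epi PF.π]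
    refine Sigma.hom_ext _ _ fun i => hom_ext_cover (hc i) fun k => ?_
    simp only [comp_zero]
    rw [← reassoc_of% (hl i k), ht']
    exact ht (.inr ⟨i, k⟩)

/-- Extensions. -/
theorem isFP_extension (hB : GoodBase J B) [HasPullbacks C]
    (hB₃ : ∀ (U U₁ U₂ : C) (f₁ : U₁ ⟶ U) (f₂ : U₂ ⟶ U), U ∈ B → U₁ ∈ B → U₂ ∈ B →
      CohCx.IsQcObject (shY J (pullback f₁ f₂)))
    {S : ShortComplex (ModSite.Mod O)} (hS : S.ShortExact) (h₁ : IsFP O B S.X₁) (h₃ : IsFP O B S.X₃) :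
    IsFP O B S.X₂ := by
  classical
  obtain ⟨P₁⟩ := exists_pres h₁
  obtain ⟨P₃⟩ := exists_pres h₃
  have := P₁.finI; have := P₁.finR; have := P₃.finI; have := P₃.finR
  have := P₁.epi; have := P₃.epi
  have := hS.epi_g; have := hS.mono_f
  choose A hA Y g l hY hc hl using fun i => exists_lift hB (hB.qc _ (P₃.memU i)) S.g
    (Sigma.ι (fun i => ModSite.freeOn O (P₃.U i)) i ≫ P₃.π)
  let I : Type u := P₁.I ⊕ Σ i, A i
  let U : I → C := Sum.elim P₁.U fun p => Y p.1 p.2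
  let T : ModSite.Mod O := ∐ fun x : I => ModSite.freeOn O (U x)
  let ι₁ : (∐ fun i => ModSite.freeOn O (P₁.U i)) ⟶ T :=
    Sigma.desc fun i => Sigma.ι (fun x : I => ModSite.freeOn O (U x)) (.inl i)
  let P : ModSite.Mod O := ∐ fun p : Σ i, A i => ModSite.freeOn O (Y p.1 p.2)
  let ι₀ : P ⟶ T := Sigma.desc fun p => Sigma.ι (fun x : I => ModSite.freeOn O (U x)) (.inr p)
  let L : P ⟶ S.X₂ := Sigma.desc fun p => l p.1 p.2
  let e : P ⟶ ∐ fun i => ModSite.freeOn O (P₃.U i) :=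
    Sigma.desc fun p => fm O (g p.1 p.2) ≫ Sigma.ι (fun i => ModSite.freeOn O (P₃.U i)) p.1
  let π : T ⟶ S.X₂ := Sigma.desc fun x =>
    match x with
    | .inl i => Sigma.ι (fun i => ModSite.freeOn O (P₁.U i)) i ≫ P₁.π ≫ S.f
    | .inr p => l p.1 p.2
  have hπ₁ : ι₁ ≫ π = P₁.π ≫ S.f := Sigma.hom_ext _ _ fun i => by
    simp only [ι₁, π, Sigma.ι_desc_assoc]
    exact Sigma.ι_desc _ _
  have hπ₀ : ι₀ ≫ π = L := Sigma.hom_ext _ _ fun p => by
    simp only [ι₀, π, L, Sigma.ι_desc_assoc, Sigma.ι_desc]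
    exact Sigma.ι_desc _ _
  have hLg : L ≫ S.g = e ≫ P₃.π := Sigma.hom_ext _ _ fun p => by simp [L, e, hl]
  have hee : Epi e := Preadditive.epi_of_cancel_zero _ fun a ha => Sigma.hom_ext _ _ fun i =>
    hom_ext_cover (hc i) fun k => by
      have := congrArg (Sigma.ι (fun p : Σ i, A i => ModSite.freeOn O (Y p.1 p.2)) ⟨i, k⟩ ≫ ·) ha
      simpa [e] using this
  have hπ : Epi π := Preadditive.epi_of_cancel_zero _ fun a ha => by
    have h1 : S.f ≫ a = 0 := by
      rw [← cancel_epi P₁.π, ← reassoc_of% hπ₁, ha]; simp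
    obtain ⟨b, rfl⟩ : ∃ b, S.g ≫ b = a :=
      ⟨hS.exact.desc a h1, hS.exact.g_desc a h1⟩
    have h2 : e ≫ P₃.π ≫ b = 0 := by
      rw [← reassoc_of% hLg, ← reassoc_of% hπ₀, ha, comp_zero]
    have hb : b = 0 := by
      rw [← cancel_epi P₃.π, ← cancel_epi e, h2]; simp
    simp [hb]
  -- an element of `P` over `S.X₁` gives relations
  have mk : ∀ {Z : C}, CohCx.IsQcObject (shY J Z) → ∀ (d : ModSite.freeOn O Z ⟶ P), d ≫ e ≫ P₃.π = 0 →
      ∃ (K : Type u) (_ : Finite K) (W : K → C) (w : ∀ k, W k ⟶ Z)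
        (r : ∀ k, ModSite.freeOn O (W k) ⟶ T), (∀ k, W k ∈ B) ∧ Sieve.ofArrows W w ∈ J Z ∧
        (∀ k, r k ≫ π = 0) ∧
        ∀ {N : ModSite.Mod O} (t : T ⟶ N) (t₁ : S.X₁ ⟶ N), P₁.π ≫ t₁ = ι₁ ≫ t → (∀ k, r k ≫ t = 0) →
          ∀ {E : ModSite.Mod O} (a : S.X₂ ⟶ E) (b : N ⟶ E), S.f ≫ a = t₁ ≫ b →
            d ≫ L ≫ a = d ≫ ι₀ ≫ t ≫ b := by
    intro Z hZ d hd
    have hz : (d ≫ L) ≫ S.g = 0 := by rw [Category.assoc, hLg, hd]
    obtain ⟨K, hK, W, w, n, hW, hw, hn⟩ := exists_lift hB hZ P₁.π (hS.exact.lift (d ≫ L) hz)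
    refine ⟨K, hK, W, w, fun k => n k ≫ ι₁ - fm O (w k) ≫ d ≫ ι₀, hW, hw, fun k => ?_,
      fun {N} t t₁ ht₁ hr {E} a b hab => hom_ext_cover hw fun k => ?_⟩
    · simp [Preadditive.sub_comp, hπ₁, hπ₀, reassoc_of% (hn k)]
    · have hr' := hr k
      rw [Preadditive.sub_comp, sub_eq_zero, Category.assoc, Category.assoc, Category.assoc, ← ht₁] at hr'
      rw [← reassoc_of% hr', ← hab, reassoc_of% (hn k), hS.exact.lift_f_assoc]
      simp
  -- relations lifted from `S.X₃`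
  choose Q hQ Z z m hZ hz hm using fun j => exists_lift hB (hB.qc _ (P₃.memV j)) e (P₃.rel j)
  choose K₁ hK₁ W₁ w₁ r₁ hW₁ hw₁ hr₁ hu₁ using fun (x : Σ j, Q j) =>
    mk (hB.qc _ (hZ x.1 x.2)) (m x.1 x.2) (by
      rw [← Category.assoc, hm]; simp [P₃.rel_π])
  -- relations on the overlaps
  let D : Type u := Σ i, A i × A i
  let pb : D → C := fun x => pullback (g x.1 x.2.1) (g x.1 x.2.2)
  let dd : ∀ x : D, ModSite.freeOn O (pb x) ⟶ P := fun x =>
    fm O (pullback.fst (g x.1 x.2.1) (g x.1 x.2.2)) ≫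
        Sigma.ι (fun p : Σ i, A i => ModSite.freeOn O (Y p.1 p.2)) ⟨x.1, x.2.1⟩ -
      fm O (pullback.snd (g x.1 x.2.1) (g x.1 x.2.2)) ≫
        Sigma.ι (fun p : Σ i, A i => ModSite.freeOn O (Y p.1 p.2)) ⟨x.1, x.2.2⟩
  choose K₂ hK₂ W₂ w₂ r₂ hW₂ hw₂ hr₂ hu₂ using fun (x : D) =>
    mk (hB₃ _ _ _ (g x.1 x.2.1) (g x.1 x.2.2) (P₃.memU _) (hY _ _) (hY _ _)) (dd x) (by
      simp only [dd, e, Preadditive.sub_comp, Category.assoc, Sigma.ι_desc_assoc]
      rw [fm_comp_fm, fm_comp_fm, pullback.condition, sub_self])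
  refine isFP_of (ι := I) (κ := P₁.R ⊕ (Σ x, K₁ x) ⊕ (Σ x, K₂ x)) U
    (Sum.elim P₁.V (Sum.elim (fun p => W₁ p.1 p.2) (fun p => W₂ p.1 p.2)))
    (fun x => Sum.casesOn x P₁.memU fun p => hY p.1 p.2)
    (fun x => match x with
      | .inl j => P₁.memV j
      | .inr (.inl p) => hW₁ p.1 p.2
      | .inr (.inr p) => hW₂ p.1 p.2)
    π (fun x => match x with
      | .inl j => P₁.rel j ≫ ι₁
      | .inr (.inl p) => r₁ p.1 p.2
      | .inr (.inr p) => r₂ p.1 p.2) (fun x => ?_) fun {N} t ht => ?_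
  · rcases x with j | p | p
    · change (P₁.rel j ≫ ι₁) ≫ π = 0
      rw [Category.assoc, hπ₁, reassoc_of% (P₁.rel_π j), zero_comp]
    · exact hr₁ p.1 p.2
    · exact hr₂ p.1 p.2
  obtain ⟨t₁, ht₁⟩ := P₁.desc (ι₁ ≫ t) fun j => (Category.assoc _ _ _).symm.trans (ht (.inl j))
  let E := pushout S.f t₁
  let a : S.X₂ ⟶ E := pushout.inl _ _
  let b : N ⟶ E := pushout.inr _ _
  have hab : S.f ≫ a = t₁ ≫ b := pushout.condition
  let φ : P ⟶ E := L ≫ a - ι₀ ≫ t ≫ b
  have hφ₂ : ∀ x : D, dd x ≫ φ = 0 := fun x => by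
    simp only [φ, Preadditive.comp_sub, sub_eq_zero]
    exact hu₂ x t t₁ ht₁ (fun k => ht (.inr (.inr ⟨x, k⟩))) a b hab
  have hφ₁ : ∀ x : Σ j, Q j, m x.1 x.2 ≫ φ = 0 := fun x => by
    simp only [φ, Preadditive.comp_sub, sub_eq_zero]
    exact hu₁ x t t₁ ht₁ (fun k => ht (.inr (.inl ⟨x, k⟩))) a b hab
  choose c hcc using fun i => exists_glue (hc i)
    (fun k => Sigma.ι (fun p : Σ i, A i => ModSite.freeOn O (Y p.1 p.2)) ⟨i, k⟩ ≫ φ)
    fun k k' Z p q hpq => by
      have h0 := congrArg (fm O (pullback.lift p q hpq) ≫ ·) (hφ₂ ⟨i, k, k'⟩)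
      simp only [dd, Preadditive.sub_comp, Category.assoc, Preadditive.comp_sub, comp_zero, fm_comp_fm,
        sub_eq_zero, pullback.lift_fst, pullback.lift_snd] at h0
      exact h0
  have hφe : e ≫ Sigma.desc c = φ := Sigma.hom_ext _ _ fun p => by simp [e, hcc]
  obtain ⟨s, hs⟩ := P₃.desc (Sigma.desc c) fun j => hom_ext_cover (hz j) fun k => by
    rw [← reassoc_of% (hm j k), hφe, comp_zero]
    exact hφ₁ ⟨j, k⟩
  let Tm : S.X₂ ⟶ E := a - S.g ≫ s
  have hT : π ≫ Tm = t ≫ b := by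
    refine Sigma.hom_ext _ _ fun x => ?_
    rcases x with i | p
    · have h := congrArg (Sigma.ι (fun i => ModSite.freeOn O (P₁.U i)) i ≫ · ≫ b) ht₁
      simp only [ι₁, Category.assoc, Sigma.ι_desc_assoc] at h
      simp only [π, Tm, Sigma.ι_desc_assoc, Category.assoc, Preadditive.comp_sub, hab,
        S.zero_assoc, zero_comp, comp_zero, sub_zero]
      exact h
    · have h := congrArg (Sigma.ι (fun p : Σ i, A i => ModSite.freeOn O (Y p.1 p.2)) p ≫ ·)
        (show L ≫ S.g ≫ s = φ by rw [reassoc_of% hLg, hs, hφe])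
      simp only [L, φ, ι₀, Preadditive.comp_sub, Sigma.ι_desc_assoc, Category.assoc] at h
      simp only [π, Tm, Sigma.ι_desc_assoc, Preadditive.comp_sub]
      exact (congrArg (fun z => l p.1 p.2 ≫ a - z) h).trans (sub_sub_cancel _ _)
  have hz0 : Tm ≫ cokernel.π b = 0 := by
    rw [← cancel_epi π, reassoc_of% hT]; simp
  have : Mono b := Abelian.mono_pushout_of_mono_f (f := S.f) (g := t₁)
  refine ⟨Abelian.monoLift b Tm hz0, ?_⟩
  rw [← cancel_mono b, Category.assoc, Abelian.monoLift_comp, hT]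

end Groth.Agent.SiteMod.FreeCover
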