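import Groth.Agent.SiteMod.FreeCover
import Mathlib.CategoryTheory.Abelian.Refinements

/-!
# Kernels of maps of finitely presented modules
-/

universe u

open CategoryTheory CategoryTheory.Limits Opposite

namespace Groth.Agent.SiteMod.FreeKernel

open Groth.Agent.ModGroth FreeCover

variable {C : Type u} [SmallCategory C] {J : GrothendieckTopology C} {O : Sheaf J CommRingCat.{u}}
  {B : Set C}

variable (O B) in
/-- A finite sum of generators. -/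
def IsFr (X : ModSite.Mod O) : Prop :=
  ∃ (ι : Type u) (_ : Finite ι) (U : ι → C), (∀ i, U i ∈ B) ∧
    Nonempty (X ≅ ∐ fun i => ModSite.freeOn O (U i))

lemma isFr_biprod {X Y : ModSite.Mod O} (hX : IsFr O B X) (hY : IsFr O B Y) : IsFr O B (X ⊞ Y) := by
  obtain ⟨ι, hι, U, hU, ⟨e⟩⟩ := hX
  obtain ⟨κ, hκ, V, hV, ⟨e'⟩⟩ := hY
  let W : ι ⊕ κ → C := Sum.elim U V
  let f := fun x : ι ⊕ κ => ModSite.freeOn O (W x)
  refine ⟨ι ⊕ κ, inferInstance, W, fun x => Sum.casesOn x hU hV, ⟨?_⟩⟩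
  refine
    { hom := biprod.desc (e.hom ≫ Sigma.desc fun i => Sigma.ι f (.inl i))
        (e'.hom ≫ Sigma.desc fun j => Sigma.ι f (.inr j))
      inv := Sigma.desc fun x => match x with
        | .inl i => Sigma.ι (fun i => ModSite.freeOn O (U i)) i ≫ e.inv ≫ biprod.inl
        | .inr j => Sigma.ι (fun i => ModSite.freeOn O (V i)) j ≫ e'.inv ≫ biprod.inr
      hom_inv_id := ?_
      inv_hom_id := ?_ }
  · refine biprod.hom_ext' _ _ ?_ ?_
    · rw [biprod.inl_desc_assoc, Category.comp_id, Category.assoc, ← Iso.eq_inv_comp]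
      refine Sigma.hom_ext _ _ fun i => ?_
      rw [Sigma.ι_desc_assoc]
      exact Sigma.ι_desc _ _
    · rw [biprod.inr_desc_assoc, Category.comp_id, Category.assoc, ← Iso.eq_inv_comp]
      refine Sigma.hom_ext _ _ fun i => ?_
      rw [Sigma.ι_desc_assoc]
      exact Sigma.ι_desc _ _
  · refine Sigma.hom_ext _ _ fun x => ?_
    rcases x with i | j <;> rw [Sigma.ι_desc_assoc, Category.comp_id]
    · simp only [Category.assoc]
      rw [biprod.inl_desc, e.inv_hom_id_assoc]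
      exact Sigma.ι_desc _ _
    · simp only [Category.assoc]
      rw [biprod.inr_desc, e'.inv_hom_id_assoc]
      exact Sigma.ι_desc _ _

lemma exists_lift_fr (hB : GoodBase J B) {X G F : ModSite.Mod O} (hX : IsFr O B X) (p : G ⟶ F) [Epi p]
    (a : X ⟶ F) : ∃ (Y : ModSite.Mod O) (_ : IsFr O B Y) (e : Y ⟶ X) (_ : Epi e) (l : Y ⟶ G),
      l ≫ p = e ≫ a := by
  obtain ⟨ι, hι, U, hU, ⟨iX⟩⟩ := hX
  choose A hA Y g l hY hc hl using fun i => exists_lift hB (hB.qc _ (hU i)) p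
    (Sigma.ι (fun i => ModSite.freeOn O (U i)) i ≫ iX.inv ≫ a)
  let e : (∐ fun q : Σ i, A i => ModSite.freeOn O (Y q.1 q.2)) ⟶ ∐ fun i => ModSite.freeOn O (U i) :=
    Sigma.desc fun q => fm O (g q.1 q.2) ≫ Sigma.ι (fun i => ModSite.freeOn O (U i)) q.1
  have : Epi e := Preadditive.epi_of_cancel_zero _ fun b hb => Sigma.hom_ext _ _ fun i =>
    hom_ext_cover (hc i) fun k => by
      have := congrArg (Sigma.ι (fun q : Σ i, A i => ModSite.freeOn O (Y q.1 q.2)) ⟨i, k⟩ ≫ ·) hb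
      simpa [e] using this
  refine ⟨_, ⟨Σ i, A i, inferInstance, fun q => Y q.1 q.2, fun q => hY _ _, ⟨Iso.refl _⟩⟩, e ≫ iX.inv,
    inferInstance, Sigma.desc fun q => l q.1 q.2, Sigma.hom_ext _ _ fun q => ?_⟩
  simp [e, hl]

lemma exists_lift_exact (hB : GoodBase J B) {X : ModSite.Mod O} (hX : IsFr O B X)
    {S : ShortComplex (ModSite.Mod O)} (hS : S.Exact) (a : X ⟶ S.X₂) (ha : a ≫ S.g = 0) :
    ∃ (Y : ModSite.Mod O) (_ : IsFr O B Y) (e : Y ⟶ X) (_ : Epi e) (l : Y ⟶ S.X₁), l ≫ S.f = e ≫ a := by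
  have : Epi (kernel.lift S.g S.f S.zero) := S.exact_iff_epi_kernel_lift.1 hS
  obtain ⟨Y, hY, e, he, l, hl⟩ := exists_lift_fr hB hX (kernel.lift S.g S.f S.zero) (kernel.lift S.g a ha)
  refine ⟨Y, hY, e, he, l, ?_⟩
  have := congrArg (· ≫ kernel.ι S.g) hl
  simpa using this

lemma isFP_fr {X : ModSite.Mod O} (hX : IsFr O B X) : IsFP O B X := by
  obtain ⟨ι, hι, U, hU, ⟨e⟩⟩ := hX
  exact isFP_of (κ := PEmpty.{u + 1}) U (fun x => x.elim) hU (fun x => x.elim) e.inv (fun x => x.elim)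
    (fun x => x.elim) fun t _ => ⟨e.hom ≫ t, by simp⟩

lemma isFP_of_iso {F G : ModSite.Mod O} (e : F ≅ G) (h : IsFP O B F) : IsFP O B G := by
  obtain ⟨m, n, V, U, ψ, hV, hU, ⟨i⟩⟩ := h
  exact ⟨m, n, V, U, ψ, hV, hU, ⟨e.symm ≪≫ i⟩⟩

lemma isFr_fin {n : ℕ} (U : Fin n → C) (hU : ∀ i, U i ∈ B) :
    IsFr O B (∐ fun i => ModSite.freeOn O (U i)) :=
  ⟨ULift.{u} (Fin n), inferInstance, fun i => U i.down, fun i => hU _,
    ⟨(Sigma.reindex Equiv.ulift (fun i : Fin n => ModSite.freeOn O (U i))).symm⟩⟩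

lemma exists_exact {F : ModSite.Mod O} (hF : IsFP O B F) :
    ∃ (S : ShortComplex (ModSite.Mod O)), IsFr O B S.X₁ ∧ IsFr O B S.X₂ ∧ S.Exact ∧ Epi S.g ∧
      Nonempty (S.X₃ ≅ F) := by
  obtain ⟨m, n, V, U, ψ, hV, hU, ⟨i⟩⟩ := hF
  exact ⟨ShortComplex.mk ψ (cokernel.π ψ) (cokernel.condition _), isFr_fin V hV, isFr_fin U hU,
    ShortComplex.exact_of_g_is_cokernel _ (cokernelIsCokernel ψ), inferInstanceAs (Epi (cokernel.π ψ)),
    ⟨i.symm⟩⟩

section Ker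

variable (hker : ∀ (m n : ℕ) (V : Fin m → C) (U : Fin n → C)
    (φ : (∐ fun j => ModSite.freeOn O (V j)) ⟶ ∐ fun i => ModSite.freeOn O (U i)),
    (∀ j, V j ∈ B) → (∀ i, U i ∈ B) → IsFP O B (kernel φ))

include hker in
lemma isFP_kernel_fr {X Y : ModSite.Mod O} (hX : IsFr O B X) (hY : IsFr O B Y) (φ : X ⟶ Y) :
    IsFP O B (kernel φ) := by
  obtain ⟨ι, hι, U, hU, ⟨e⟩⟩ := hX
  obtain ⟨κ, hκ, V, hV, ⟨e'⟩⟩ := hY
  obtain ⟨n, ⟨en⟩⟩ := Finite.exists_equiv_fin ι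
  obtain ⟨m, ⟨em⟩⟩ := Finite.exists_equiv_fin κ
  let a := e ≪≫ (Sigma.reindex en.symm (fun i => ModSite.freeOn O (U i))).symm
  let b := e' ≪≫ (Sigma.reindex em.symm (fun i => ModSite.freeOn O (V i))).symm
  exact isFP_of_iso (kernel.mapIso φ (a.inv ≫ φ ≫ b.hom) a b (by simp)).symm
    (hker n m _ _ (a.inv ≫ φ ≫ b.hom) (fun j => hU _) fun i => hV _)

include hker in
lemma exists_kernel_gens {X Y : ModSite.Mod O} (hX : IsFr O B X) (hY : IsFr O B Y) (φ : X ⟶ Y) :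
    ∃ (K : ModSite.Mod O) (_ : IsFr O B K) (k : K ⟶ X) (w : k ≫ φ = 0),
      (ShortComplex.mk k φ w).Exact := by
  obtain ⟨S, -, hS, -, he, ⟨i⟩⟩ := exists_exact (isFP_kernel_fr hker hX hY φ)
  refine ⟨S.X₂, hS, S.g ≫ i.hom ≫ kernel.ι φ, by simp, ?_⟩
  rw [ShortComplex.exact_iff_epi_kernel_lift]
  have h : kernel.lift φ (S.g ≫ i.hom ≫ kernel.ι φ) (by simp) = S.g ≫ i.hom := by
    rw [← cancel_mono (kernel.ι φ)]; simp
  show Epi (kernel.lift φ (S.g ≫ i.hom ≫ kernel.ι φ) (by simp))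
  rw [h]
  infer_instance

include hker in
/-- Kernels. -/
theorem isFP_kernel (hB : GoodBase J B) {F G : ModSite.Mod O} (α : F ⟶ G) (hF : IsFP O B F)
    (hG : IsFP O B G) : IsFP O B (kernel α) := by
  obtain ⟨P, hP₁, hP₂, hP, hPe, ⟨iF⟩⟩ := exists_exact hF
  obtain ⟨Q, hQ₁, hQ₂, hQ, hQe, ⟨iG⟩⟩ := exists_exact hG
  obtain ⟨W, hW, e, he, β, hβ⟩ := exists_lift_fr hB hP₂ Q.g (P.g ≫ iF.hom ≫ α ≫ iG.inv)
  let q : W ⟶ F := e ≫ P.g ≫ iF.hom
  have hq : Epi q := inferInstance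
  have hqα : q ≫ α = β ≫ Q.g ≫ iG.hom := by rw [reassoc_of% hβ]; simp [q]
  -- generators of the kernel of `q`
  obtain ⟨R, hR, eR, heR, m, hm⟩ := exists_lift_fr hB hP₁ e P.f
  obtain ⟨Ke, hKe, ke, hke, heK⟩ := exists_kernel_gens hker hW hP₂ e
  let r : R ⊞ Ke ⟶ W := biprod.desc m ke
  have hrq : r ≫ q = 0 := by
    refine biprod.hom_ext' _ _ ?_ ?_
    · simp [r, q, reassoc_of% hm]
    · simp [r, q, reassoc_of% hke]
  have hrQ : (r ≫ β) ≫ Q.g = 0 := by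
    rw [← cancel_mono iG.hom, zero_comp, Category.assoc, Category.assoc, ← hqα, reassoc_of% hrq,
      zero_comp]
  obtain ⟨T, hT, eT, heT, n, hn⟩ := exists_lift_exact hB (isFr_biprod hR hKe) hQ (r ≫ β) hrQ
  obtain ⟨Kp, hKp, kp, hkp, hKpe⟩ := exists_kernel_gens hker hQ₁ hQ₂ Q.f
  let d : W ⊞ Q.X₁ ⟶ Q.X₂ := biprod.desc β (-Q.f)
  let c₀ : T ⊞ Kp ⟶ W ⊞ Q.X₁ := biprod.desc (biprod.lift (eT ≫ r) n) (biprod.lift 0 kp)
  have hc₀ : c₀ ≫ d = 0 := by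
    refine biprod.hom_ext' _ _ ?_ ?_
    · simp [c₀, d, hn]
    · simp [c₀, d, hkp]
  let c : T ⊞ Kp ⟶ kernel d := kernel.lift d c₀ hc₀
  have hd : kernel.ι d ≫ biprod.fst ≫ β = kernel.ι d ≫ biprod.snd ≫ Q.f := by
    have := kernel.condition d
    simp only [d, biprod.desc_eq, Preadditive.comp_add, Preadditive.comp_neg, add_neg_eq_zero] at this
    exact this
  let θ : kernel d ⟶ kernel α := kernel.lift α (kernel.ι d ≫ biprod.fst ≫ q) (by
    simp only [Category.assoc, hqα]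
    rw [reassoc_of% hd, reassoc_of% Q.zero]
    simp)
  have hθ : θ ≫ kernel.ι α = kernel.ι d ≫ biprod.fst ≫ q := kernel.lift_ι _ _ _
  have hcθ : c ≫ θ = 0 := by
    rw [← cancel_mono (kernel.ι α), Category.assoc, hθ, zero_comp]
    refine biprod.hom_ext' _ _ ?_ ?_ <;> simp [c, c₀, hrq]
  have hθe : Epi θ := by
    rw [epi_iff_surjective_up_to_refinements]
    intro A x
    obtain ⟨A₁, p₁, hp₁, w, hw⟩ := surjective_up_to_refinements_of_epi q (x ≫ kernel.ι α)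
    have hz : (w ≫ β) ≫ Q.g = 0 := by
      rw [← cancel_mono iG.hom, zero_comp, Category.assoc, Category.assoc, ← hqα, ← reassoc_of% hw]
      simp
    obtain ⟨A₂, p₂, hp₂, v, hv⟩ := hQ.exact_up_to_refinements (w ≫ β) hz
    refine ⟨A₂, p₂ ≫ p₁, inferInstance, kernel.lift d (biprod.lift (p₂ ≫ w) v) ?_, ?_⟩
    · simp [d, hv]
    · rw [← cancel_mono (kernel.ι α)]
      simp only [Category.assoc, hθ, kernel.lift_ι_assoc, biprod.lift_fst_assoc, hw]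
  have hex : (ShortComplex.mk c θ hcθ).Exact := by
    rw [ShortComplex.exact_iff_exact_up_to_refinements]
    intro A (x : A ⟶ kernel d) (hx : x ≫ θ = 0)
    let w := x ≫ kernel.ι d ≫ biprod.fst
    let v := x ≫ kernel.ι d ≫ biprod.snd
    have hwq : w ≫ q = 0 := by
      have := congrArg (· ≫ kernel.ι α) hx
      simpa [w, hθ] using this
    obtain ⟨A₁, p₁, hp₁, y, hy⟩ := hP.exact_up_to_refinements (w ≫ e) (by
      rw [← cancel_mono iF.hom, zero_comp]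
      simpa [q] using hwq)
    obtain ⟨A₂, p₂, hp₂, s, hs⟩ := surjective_up_to_refinements_of_epi eR y
    obtain ⟨A₃, p₃, hp₃, (k : A₃ ⟶ Ke), hk⟩ := heK.exact_up_to_refinements (p₂ ≫ p₁ ≫ w - s ≫ m) (by
      change (p₂ ≫ p₁ ≫ w - s ≫ m) ≫ e = 0
      simp only [Preadditive.sub_comp, Category.assoc, hm, hy, ← reassoc_of% hs, sub_self])
    have hk' : p₃ ≫ (p₂ ≫ p₁ ≫ w - s ≫ m) = k ≫ ke := hk
    let z : A₃ ⟶ R ⊞ Ke := biprod.lift (p₃ ≫ s) k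
    have hz : z ≫ r = p₃ ≫ p₂ ≫ p₁ ≫ w := by
      rw [Preadditive.comp_sub, sub_eq_iff_eq_add] at hk'
      simp only [z, r, biprod.lift_desc, Category.assoc, hk', add_comm]
    obtain ⟨A₄, p₄, hp₄, u, hu⟩ := surjective_up_to_refinements_of_epi eT z
    have hu' : u ≫ eT ≫ r = p₄ ≫ p₃ ≫ p₂ ≫ p₁ ≫ w := by
      rw [← reassoc_of% hu, hz]
    have hwv : w ≫ β = v ≫ Q.f := by simp [w, v, hd]
    obtain ⟨A₅, p₅, hp₅, (k₂ : A₅ ⟶ Kp), hk₂⟩ :=
      hKpe.exact_up_to_refinements (p₄ ≫ p₃ ≫ p₂ ≫ p₁ ≫ v - u ≫ n) (by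
        change (p₄ ≫ p₃ ≫ p₂ ≫ p₁ ≫ v - u ≫ n) ≫ Q.f = 0
        simp only [Preadditive.sub_comp, Category.assoc, hn, ← hwv]
        rw [reassoc_of% hu', sub_self])
    have hk₂' : p₅ ≫ (p₄ ≫ p₃ ≫ p₂ ≫ p₁ ≫ v - u ≫ n) = k₂ ≫ kp := hk₂
    rw [Preadditive.comp_sub, sub_eq_iff_eq_add] at hk₂'
    refine ⟨A₅, p₅ ≫ p₄ ≫ p₃ ≫ p₂ ≫ p₁, inferInstance, biprod.lift (p₅ ≫ u) k₂, ?_⟩
    change (p₅ ≫ p₄ ≫ p₃ ≫ p₂ ≫ p₁) ≫ x = biprod.lift (p₅ ≫ u) k₂ ≫ c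
    rw [← cancel_mono (kernel.ι d)]
    have e0 : biprod.lift (p₅ ≫ u) k₂ ≫ c₀ =
        (p₅ ≫ u) ≫ biprod.lift (eT ≫ r) n + k₂ ≫ biprod.lift 0 kp := by simp [c₀]
    simp only [c, Category.assoc, kernel.lift_ι, e0]
    apply biprod.hom_ext
    · simp only [Preadditive.add_comp, Category.assoc, biprod.lift_fst, comp_zero, add_zero, hu']
      rfl
    · simp only [Preadditive.add_comp, Category.assoc, biprod.lift_snd]
      rw [add_comm, ← hk₂']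
  have : Epi (ShortComplex.mk c θ hcθ).g := hθe
  exact isFP_of_iso ((cokernelIsCokernel c).coconePointUniqueUpToIso hex.gIsCokernel)
    (isFP_cokernel hB c (isFP_fr (isFr_biprod hT hKp))
      (isFP_kernel_fr hker (isFr_biprod hW hQ₁) hQ₂ d))

end Ker

end Groth.Agent.SiteMod.FreeKernel
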